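import Mathlib
import Cfsg.Agent.Lib.Lie.AltPres

/-!
Homomorphisms out of alternating groups given by Carmichael generators, and finite facts about the
alternating group on five points.
-/

set_option autoImplicit false

namespace Cfsg.Agent.Block.SevenPts

open Cfsg.Agent.Lie.Carmichael

/-- Carmichael generators define a homomorphism. -/
theorem exists_altHom {I : Type*} [DecidableEq I] [Fintype I] {G : Type*} [Group G] (x : I → G)
    (h3 : ∀ i, x i ^ 3 = 1) (h2 : ∀ i j, i ≠ j → (x i * x j) ^ 2 = 1) :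
    ∃ φ : alternatingGroup (Pt I) →* G, ∀ i, φ (cyc i) = x i := by
  set K : Subgroup (G × alternatingGroup (Pt I)) := Subgroup.closure (Set.range fun i => (x i, cyc i)) with hK
  let x' : I → K := fun i => ⟨(x i, cyc i), Subgroup.subset_closure ⟨i, rfl⟩⟩
  have hgen : Subgroup.closure (Set.range x') = ⊤ := by
    rw [← Subgroup.closure_closure_coe_preimage (k := Set.range fun i => (x i, cyc i))]
    congr 1
    ext y
    constructor
    · rintro ⟨i, rfl⟩
      exact ⟨i, rfl⟩
    · rintro ⟨i, hi⟩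
      exact ⟨i, Subtype.ext hi⟩
  have h3' : ∀ i, x' i ^ 3 = 1 := fun i => Subtype.ext (Prod.ext (h3 i) (cyc_cube i))
  have h2' : ∀ i j, i ≠ j → (x' i * x' j) ^ 2 = 1 := fun i j hij =>
    Subtype.ext (Prod.ext (h2 i j hij) (cyc_pair hij))
  let π : K →* alternatingGroup (Pt I) := (MonoidHom.snd G _).comp K.subtype
  have hb := bijective h3' h2' hgen π fun i => rfl
  refine ⟨((MonoidHom.fst G _).comp K.subtype).comp (MulEquiv.ofBijective π hb).symm.toMonoidHom, fun i => ?_⟩
  have : (MulEquiv.ofBijective π hb).symm (cyc i) = x' i := (MulEquiv.symm_apply_eq _).2 rfl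
  show ((((MulEquiv.ofBijective π hb).symm (cyc i) : K) : G × alternatingGroup (Pt I))).1 = x i
  rw [this]

/-- The five points. -/
abbrev F5 : Type := Pt (Fin 3)

set_option maxRecDepth 20000 in
theorem stab_last : ∀ k : alternatingGroup F5, k.1 (ptI 2) = ptI 2 →
    ∃ i j l m : Fin 3, k = cyc 0 ^ i.1 * cyc 1 ^ j.1 * cyc 0 ^ l.1 * cyc 1 ^ m.1 := by
  decide +kernel

set_option maxRecDepth 20000 in
theorem two_trans : ∀ i j : F5, i ≠ j → ∃ k : alternatingGroup F5, k.1 (ptI 1) = i ∧ k.1 (ptI 2) = j := by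
  decide +kernel

set_option maxRecDepth 20000 in
theorem exists_flip : ∃ s : alternatingGroup F5, s.1 (ptI 2) = ptI 1 ∧ s * cyc 0 * s⁻¹ = (cyc 0)⁻¹ := by
  decide +kernel

end Cfsg.Agent.Block.SevenPts
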