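import Mathlib
import Cfsg.Agent.Lib.Block.SmallOrd.Order175560
import Cfsg.Agent.Lib.Block.SmallOrd.Cases
import Cfsg.Agent.Lib.Transfer.Abelian

/-!
A simple group of order 2520: centralizers of elements of order 5 and 7, the Sylow 3-subgroups.
-/

set_option autoImplicit false
set_option linter.unusedSectionVars false

namespace Cfsg.Agent.Block.SevenPts

open Cfsg Cfsg.Agent.Block

universe u

variable {G : Type u} [Group G] [Finite G]

theorem cent_zpowers (x : G) :
    Subgroup.centralizer ((Subgroup.zpowers x : Subgroup G) : Set G) = Subgroup.centralizer {x} := by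
  rw [Subgroup.zpowers_eq_closure, Subgroup.centralizer_closure]

variable [IsSimpleGroup G] (h : Nat.card G = 2520)
include h

theorem not_comm : ¬ IsMulCommutative G := small_not_comm (by rw [h]; norm_num)

theorem options_five [Fact (Nat.Prime 5)] :
    (∀ P : Sylow 5 G, Nat.card P = 5) ∧ ∀ P : Sylow 5 G,
      Nat.card (Subgroup.centralizer ((P : Subgroup G) : Set G)) = 5 ∧ Nat.card (Sylow 5 G) = 126 := by
  obtain ⟨h1, h2⟩ := SmallOrd.options_of_test (not_comm h) (p := 5) (B := 51) h [(126, 1)] (by decide +kernel)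
  refine ⟨h1, fun P => ?_⟩
  obtain ⟨c, hc, hC⟩ := h2 P
  simp only [List.mem_cons, List.not_mem_nil, or_false, Prod.mk.injEq] at hc
  exact ⟨by rw [hC, hc.2], hc.1⟩

theorem options_seven [Fact (Nat.Prime 7)] :
    (∀ P : Sylow 7 G, Nat.card P = 7) ∧ ∀ P : Sylow 7 G,
      Nat.card (Subgroup.centralizer ((P : Subgroup G) : Set G)) = 7 ∧ Nat.card (Sylow 7 G) = 120 := by
  obtain ⟨h1, h2⟩ := SmallOrd.options_of_test (not_comm h) (p := 7) (B := 51) h
    [(8, 15), (15, 8), (120, 1)] (by decide +kernel)
  refine ⟨h1, fun P => ?_⟩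
  obtain ⟨c, hc, hC⟩ := h2 P
  simp only [List.mem_cons, List.not_mem_nil, or_false, Prod.mk.injEq] at hc
  rcases hc with ⟨hn, rfl⟩ | ⟨hn, rfl⟩ | ⟨hn, rfl⟩
  · exfalso
    haveI : Fact (Nat.Prime 5) := ⟨by norm_num⟩
    obtain ⟨hP5, hC5⟩ := options_five h
    obtain ⟨Q, hQ⟩ := SmallOrd.cross_dvd (p := 7) (q := 5) hP5 P (h1 P) (by rw [hC]; norm_num)
    rw [(hC5 Q).1] at hQ
    norm_num at hQ
  · exfalso
    -- fifteen Sylow subgroups: two orbits of seven besides the fixed point
    classical
    haveI : Fact (Nat.Prime 2) := ⟨Nat.prime_two⟩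
    set C := Subgroup.centralizer ((P : Subgroup G) : Set G) with hCdef
    obtain ⟨T, hT⟩ := Sylow.exists_subgroup_card_pow_prime (G := C) 2 (n := 3) (by rw [hC]; norm_num)
    obtain ⟨g, hg⟩ := exists_prime_orderOf_dvd_card' (G := (P : Subgroup G)) 7
      (by rw [show Nat.card (P : Subgroup G) = 7 from h1 P])
    have hgo : orderOf (g : G) = 7 := by rw [Subgroup.orderOf_coe, hg]
    -- fixed points of the generator
    have hfix : ∀ Q : Sylow 7 G, (g : G) • Q = Q → Q = P := by
      intro Q hQ
      rw [Sylow.smul_eq_iff_mem_normalizer] at hQ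
      have hle : Subgroup.zpowers (g : G) ≤ Subgroup.normalizer ((Q : Subgroup G) : Set G) :=
        Subgroup.zpowers_le.2 hQ
      have hp : IsPGroup 7 (Subgroup.zpowers (g : G)) :=
        IsPGroup.of_card (n := 1) (by rw [Nat.card_zpowers, hgo, pow_one])
      have hp' : IsPGroup 7 ((Subgroup.zpowers (g : G)) ⊔ (Q : Subgroup G) : Subgroup G) :=
        IsPGroup.to_sup_of_normal_right' hp Q.isPGroup' hle
      have hQle : Subgroup.zpowers (g : G) ≤ (Q : Subgroup G) := le_sup_left.trans (Q.3 hp' le_sup_right).le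
      have e1 : Subgroup.zpowers (g : G) = (Q : Subgroup G) := Subgroup.eq_of_le_of_card_ge hQle (by
        rw [show Nat.card (Q : Subgroup G) = 7 from h1 Q, Nat.card_zpowers, hgo])
      have e2 : Subgroup.zpowers (g : G) = (P : Subgroup G) :=
        Subgroup.eq_of_le_of_card_ge (Subgroup.zpowers_le.2 g.2) (by
          rw [show Nat.card (P : Subgroup G) = 7 from h1 P, Nat.card_zpowers, hgo])
      exact Sylow.ext (e1.symm.trans e2)
    have hg7 : (g : G) ^ 7 = 1 := by rw [← pow_orderOf_eq_one (g : G), hgo]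
    have hgmod : ∀ n : ℕ, (g : G) ^ (n % 7) = (g : G) ^ n := fun n => by
      conv_rhs => rw [← Nat.mod_add_div n 7, pow_add, pow_mul, hg7, one_pow, mul_one]
    have hcomm : ∀ t : T, Commute ((t : C) : G) (g : G) := fun t =>
      ((Subgroup.mem_centralizer_iff.1 (t : C).2) g g.2).symm
    -- an element of `T` moving some point inside its orbit fixes it
    have hmove : ∀ (t : T) (Q : Sylow 7 G) (i : ℕ), ((t : C) : G) • Q = (g : G) ^ i • Q →
        ((t : C) : G) • Q = Q := by
      intro t Q i hi
      have hk : ∀ j : ℕ, ((t : C) : G) ^ j • Q = (g : G) ^ (i * j) • Q := by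
        intro j
        induction j with
        | zero => simp
        | succ j ih =>
          rw [pow_succ', mul_smul, ih, ← mul_smul, ((hcomm t).pow_right (i * j)).eq, mul_smul, hi, ← mul_smul,
            ← pow_add, show i * j + i = i * (j + 1) by ring]
      have h8 : ((t : C) : G) ^ 8 = 1 := by
        have : (t : T) ^ 8 = 1 := by
          have := pow_card_eq_one' (x := t)
          rwa [show Nat.card T = 8 by rw [hT]; norm_num] at this
        have := congrArg (fun y : T => ((y : C) : G)) this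
        simpa using this
      have hQ8 := hk 8
      rw [h8, one_smul] at hQ8
      have hi7 : (g : G) ^ (i * 8) = (g : G) ^ i := by
        rw [show i * 8 = i + 7 * i by ring, pow_add, pow_mul, hg7, one_pow, mul_one]
      rw [hi7] at hQ8
      rw [hi, ← hQ8]
    -- the orbit map
    letI : Fintype (Sylow 7 G) := Fintype.ofFinite _
    let O : Sylow 7 G → Finset (Sylow 7 G) := fun Q => (Finset.range 7).image fun i => (g : G) ^ i • Q
    have hO : ∀ Q, Q ≠ P → (O Q).card = 7 := by
      intro Q hQ
      rw [Finset.card_image_of_injOn, Finset.card_range]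
      intro i hi j hj hij
      simp only [Finset.coe_range, Set.mem_Iio] at hi hj
      dsimp only at hij
      by_contra hne
      suffices key : ∀ i j : ℕ, i < j → j < 7 → (g : G) ^ i • Q = (g : G) ^ j • Q → False by
        rcases lt_or_gt_of_ne hne with hlt | hlt
        · exact key i j hlt hj hij
        · exact key j i hlt hi hij.symm
      intro i j hlt hj hij
      have e : (g : G) ^ (j - i) • Q = Q := by
        have : (g : G) ^ j = (g : G) ^ i * (g : G) ^ (j - i) := by rw [← pow_add]; congr 1; omega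
        rw [this, mul_smul] at hij
        exact (smul_left_cancel _ hij).symm
      obtain ⟨k, hk⟩ : ∃ k : ℕ, ((g : G) ^ (j - i)) ^ k = g := by
        have hcop : Nat.Coprime (j - i) 7 := (Nat.coprime_comm.1 ((Nat.Prime.coprime_iff_not_dvd
          (by norm_num)).2 fun hd => by have := Nat.le_of_dvd (by omega) hd; omega))
        obtain ⟨k, hk⟩ := exists_pow_eq_self_of_coprime (x := (g : G)) (n := j - i) (by rw [hgo]; exact hcop)
        exact ⟨k, hk⟩
      have : (g : G) • Q = Q := by
        conv_lhs => rw [← hk]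
        exact MulAction.mem_stabilizer_iff.1 (Subgroup.pow_mem _ (MulAction.mem_stabilizer_iff.2 e) k)
      exact hQ (hfix Q this)
    -- two points in different orbits
    have hN : Fintype.card (Sylow 7 G) = 15 := by rw [← Nat.card_eq_fintype_card, hn]
    obtain ⟨Q₁, hQ₁⟩ : ∃ Q, Q ≠ P := by
      by_contra hc'
      push Not at hc'
      have : Fintype.card (Sylow 7 G) ≤ 1 := Fintype.card_le_one_iff.2 fun a b => (hc' a).trans (hc' b).symm
      omega
    obtain ⟨Q₂, hQ₂, hQ₂'⟩ : ∃ Q, Q ≠ P ∧ Q ∉ O Q₁ := by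
      by_contra hc'
      push Not at hc'
      have : (Finset.univ : Finset (Sylow 7 G)) ⊆ insert P (O Q₁) := fun Q _ => by
        rcases eq_or_ne Q P with rfl | hne
        · exact Finset.mem_insert_self _ _
        · exact Finset.mem_insert_of_mem (hc' Q hne)
      have h' := (Finset.card_le_card this).trans (Finset.card_insert_le _ _)
      rw [hO Q₁ hQ₁, Finset.card_univ, hN] at h'
      omega
    have hdisj : Disjoint (O Q₁) (O Q₂) := by
      rw [Finset.disjoint_left]
      intro Q hQa hQb
      obtain ⟨i, hi, rfl⟩ := Finset.mem_image.1 hQa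
      obtain ⟨j, hj, he⟩ := Finset.mem_image.1 hQb
      simp only [Finset.mem_range] at hi hj
      refine hQ₂' (Finset.mem_image.2 ⟨(i + (7 - j)) % 7, Finset.mem_range.2 (Nat.mod_lt _ (by norm_num)), ?_⟩)
      rw [hgmod, add_comm, pow_add, mul_smul, ← he, ← mul_smul, ← pow_add,
        show 7 - j + j = 7 by omega, hg7, one_smul]
    have hcover : ∀ Q, Q = P ∨ Q ∈ O Q₁ ∨ Q ∈ O Q₂ := by
      have hPmem : ∀ R, R ≠ P → P ∉ O R := by
        intro R hR hm
        obtain ⟨i, -, he⟩ := Finset.mem_image.1 hm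
        refine hR ?_
        have hgP : (g : G) ^ i • P = P :=
          Sylow.smul_eq_iff_mem_normalizer.2 (Subgroup.le_normalizer (Subgroup.pow_mem _ g.2 i))
        exact smul_left_cancel _ (he.trans hgP.symm)
      have : insert P (O Q₁ ∪ O Q₂) = Finset.univ := by
        refine Finset.eq_univ_of_card _ ?_
        rw [Finset.card_insert_of_notMem (by simp [hPmem Q₁ hQ₁, hPmem Q₂ hQ₂]),
          Finset.card_union_of_disjoint hdisj, hO Q₁ hQ₁, hO Q₂ hQ₂, hN]
      intro Q
      have hm : Q ∈ insert P (O Q₁ ∪ O Q₂) := this ▸ Finset.mem_univ Q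
      simpa using hm
    -- elements of `T` keeping `Q₁` in its orbit are trivial
    have htriv : ∀ t : T, ((t : C) : G) • Q₁ ∈ O Q₁ → t = 1 := by
      intro t ht
      obtain ⟨i, -, hi⟩ := Finset.mem_image.1 ht
      have h1' := hmove t Q₁ i hi.symm
      have hall : ∀ Q : Sylow 7 G, ((t : C) : G) • Q = Q := by
        intro Q
        have hcm : ∀ (i : ℕ) (R : Sylow 7 G), ((t : C) : G) • ((g : G) ^ i • R) = (g : G) ^ i • (((t : C) : G) • R) :=
          fun i R => by rw [← mul_smul, ((hcomm t).pow_right i).eq, mul_smul]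
        have htP : ((t : C) : G) • P = P :=
          Sylow.smul_eq_iff_mem_normalizer.2 (Subgroup.centralizer_le_normalizer _ (t : C).2)
        rcases hcover Q with rfl | hQ | hQ
        · exact htP
        · obtain ⟨i, -, rfl⟩ := Finset.mem_image.1 hQ
          rw [hcm, h1']
        · obtain ⟨i, -, rfl⟩ := Finset.mem_image.1 hQ
          rw [hcm]
          congr 1
          rcases hcover (((t : C) : G) • Q₂) with hh | hh | hh
          · exact absurd (smul_left_cancel _ (hh.trans htP.symm)) hQ₂
          · obtain ⟨j, -, hj⟩ := Finset.mem_image.1 hh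
            exfalso
            have : Q₂ = (g : G) ^ j • Q₁ := smul_left_cancel ((t : C) : G) (by rw [hcm, h1', hj])
            refine hQ₂' (Finset.mem_image.2 ⟨j % 7, Finset.mem_range.2 (Nat.mod_lt _ (by norm_num)), ?_⟩)
            rw [this, hgmod]
          · obtain ⟨j, -, hj⟩ := Finset.mem_image.1 hh
            exact hmove t Q₂ j hj.symm
      -- the action is faithful
      have hk : ((t : C) : G) ∈ (MulAction.toPermHom G (Sylow 7 G)).ker := MonoidHom.mem_ker.2 (Equiv.ext hall)
      have hbot : (MulAction.toPermHom G (Sylow 7 G)).ker = ⊥ := by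
        rcases (MulAction.toPermHom G (Sylow 7 G)).normal_ker.eq_bot_or_eq_top with e | e
        · exact e
        · exfalso
          obtain ⟨x, hx⟩ := MulAction.exists_smul_eq G P Q₁
          have : x ∈ (MulAction.toPermHom G (Sylow 7 G)).ker := e ▸ Subgroup.mem_top x
          exact hQ₁ (by rw [← hx]; exact Equiv.congr_fun (MonoidHom.mem_ker.1 this) P)
      rw [hbot, Subgroup.mem_bot] at hk
      exact Subtype.ext (Subtype.ext hk)
    -- eight elements, two orbits
    haveI : Nontrivial T := Finite.one_lt_card_iff_nontrivial.1 (by rw [hT]; norm_num)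
    obtain ⟨a, ha⟩ := exists_ne (1 : T)
    obtain ⟨b, hb1, hba⟩ : ∃ b : T, b ≠ 1 ∧ b ≠ a := by
      by_contra hc'
      push Not at hc'
      have : Nat.card T ≤ Nat.card ({1, a} : Set T) := by
        rw [← Nat.card_univ]
        refine Nat.card_mono (Set.toFinite _) fun x _ => ?_
        by_cases hx : x = 1
        · exact Or.inl hx
        · exact Or.inr (hc' x hx)
      rw [hT, Nat.card_coe_set_eq, Set.ncard_pair (Ne.symm ha)] at this
      norm_num at this
    have hout : ∀ t : T, t ≠ 1 → ∃ j, ((t : C) : G) • Q₁ = (g : G) ^ j • Q₂ := by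
      intro t ht
      rcases hcover (((t : C) : G) • Q₁) with hh | hh | hh
      · exfalso
        have htP : ((t : C) : G) • P = P :=
          Sylow.smul_eq_iff_mem_normalizer.2 (Subgroup.centralizer_le_normalizer _ (t : C).2)
        exact hQ₁ (smul_left_cancel _ (hh.trans htP.symm))
      · exact absurd (htriv t hh) ht
      · obtain ⟨j, -, hj⟩ := Finset.mem_image.1 hh
        exact ⟨j, hj.symm⟩
    obtain ⟨i, hi⟩ := hout a ha
    obtain ⟨j, hj⟩ := hout b hb1
    refine hba ((inv_mul_eq_one.1 (htriv (a⁻¹ * b) ?_)).symm)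
    have e1 : ((b : C) : G) • Q₁ = (g : G) ^ (j + 6 * i) • (((a : C) : G) • Q₁) := by
      rw [hi, hj, ← mul_smul, ← pow_add, show j + 6 * i + i = j + 7 * i by ring, pow_add, pow_mul, hg7,
        one_pow, mul_one]
    refine Finset.mem_image.2 ⟨(j + 6 * i) % 7, Finset.mem_range.2 (Nat.mod_lt _ (by norm_num)), ?_⟩
    rw [hgmod]
    show _ = (((a : C) : G)⁻¹ * ((b : C) : G)) • Q₁
    rw [mul_smul, e1, ← mul_smul, ← mul_smul, ((hcomm a).inv_left.pow_right _).eq, mul_assoc, inv_mul_cancel,
      mul_one]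
  · exact ⟨hC, hn⟩

/-- Centralizers of elements of order 5 and 7. -/
theorem cent_big {q : ℕ} (hq : q = 5 ∨ q = 7) {x : G} (hx : orderOf x = q) :
    Nat.card (Subgroup.centralizer ({x} : Set G)) = q ∧ Nat.card
      (Subgroup.normalizer ((Subgroup.zpowers x : Subgroup G) : Set G)) = q * (if q = 5 then 4 else 3) := by
  have key : ∀ (r n : ℕ) [Fact r.Prime], (∀ P : Sylow r G, Nat.card P = r) → (∀ P : Sylow r G,
      Nat.card (Subgroup.centralizer ((P : Subgroup G) : Set G)) = r ∧ Nat.card (Sylow r G) = n) →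
      orderOf x = r → Nat.card (Subgroup.centralizer ({x} : Set G)) = r ∧
        Nat.card (Subgroup.normalizer ((Subgroup.zpowers x : Subgroup G) : Set G)) * n = 2520 := by
    intro r n _ h1 h2 hr
    obtain ⟨P₀⟩ : Nonempty (Sylow r G) := inferInstance
    let P : Sylow r G := Sylow.ofCard (Subgroup.zpowers x) (by
      rw [Nat.card_zpowers, hr, ← P₀.card_eq_multiplicity, h1 P₀])
    have hP : (P : Subgroup G) = Subgroup.zpowers x := Sylow.coe_ofCard _ _
    obtain ⟨h3, h4⟩ := h2 P
    refine ⟨by rw [← cent_zpowers, ← hP, h3], ?_⟩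
    rw [← hP, ← h4, P.card_eq_index_normalizer, ← h]
    exact Subgroup.card_mul_index _
  rcases hq with rfl | rfl
  · haveI : Fact (Nat.Prime 5) := ⟨by norm_num⟩
    obtain ⟨h1, h2⟩ := key 5 126 (options_five h).1 (options_five h).2 hx
    exact ⟨h1, by simp only [if_pos]; omega⟩
  · haveI : Fact (Nat.Prime 7) := ⟨by norm_num⟩
    obtain ⟨h1, h2⟩ := key 7 120 (options_seven h).1 (options_seven h).2 hx
    exact ⟨h1, by rw [if_neg (by norm_num)]; omega⟩

/-- A centralizer of a nontrivial element of order prime to 5 and 7 has order dividing 72. -/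
theorem cent_dvd {y : G} (hy : y ≠ 1) (h5 : ¬ 5 ∣ orderOf y) (h7 : ¬ 7 ∣ orderOf y) :
    Nat.card (Subgroup.centralizer ({y} : Set G)) ∣ 72 := by
  have hd : Nat.card (Subgroup.centralizer ({y} : Set G)) ∣ 2520 := h ▸ Subgroup.card_subgroup_dvd_card _
  have key : ∀ q : ℕ, q = 5 ∨ q = 7 → ¬ q ∣ Nat.card (Subgroup.centralizer ({y} : Set G)) := by
    intro q hq hdvd
    haveI : Fact q.Prime := ⟨by rcases hq with rfl | rfl <;> norm_num⟩
    obtain ⟨x, hx⟩ := exists_prime_orderOf_dvd_card' q hdvd
    have hxo : orderOf (x : G) = q := by rw [Subgroup.orderOf_coe, hx]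
    have hy' : y ∈ Subgroup.centralizer ({(x : G)} : Set G) :=
      Subgroup.mem_centralizer_singleton_iff.2 ((Subgroup.mem_centralizer_singleton_iff.1 x.2).symm)
    have h1 := Subgroup.orderOf_dvd_natCard _ hy'
    rw [(cent_big h hq hxo).1] at h1
    rcases (Nat.dvd_prime Fact.out).1 h1 with h2 | h2
    · exact hy (orderOf_eq_one_iff.1 h2)
    · rcases hq with rfl | rfl
      · exact h5 (h2 ▸ dvd_rfl)
      · exact h7 (h2 ▸ dvd_rfl)
  set c := Nat.card (Subgroup.centralizer ({y} : Set G)) with hc
  have c5 : Nat.Coprime c 5 := (Nat.coprime_comm.1 ((Nat.Prime.coprime_iff_not_dvd (by norm_num)).2 (key 5 (Or.inl rfl))))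
  have c7 : Nat.Coprime c 7 := (Nat.coprime_comm.1 ((Nat.Prime.coprime_iff_not_dvd (by norm_num)).2 (key 7 (Or.inr rfl))))
  exact (Nat.Coprime.mul_right c5 c7).dvd_of_dvd_mul_right (show c ∣ 72 * (5 * 7) by norm_num; exact hd)

theorem sylow3_card [Fact (Nat.Prime 3)] (P : Sylow 3 G) : Nat.card P = 9 := by
  rw [SmallOrd.card_sylow_of (p := 3) (a := 2) (m := 280) h (by norm_num) (by norm_num) P]; norm_num

theorem sylow3_comm [Fact (Nat.Prime 3)] (P : Sylow 3 G) : IsMulCommutative (P : Subgroup G) :=
  IsPGroup.isMulCommutative_of_card_eq_prime_sq (p := 3) (by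
    rw [show Nat.card (P : Subgroup G) = 9 from sylow3_card h P]; norm_num)

/-- No element of order 5 or 7 normalizes a Sylow 3-subgroup. -/
theorem not_dvd_normalizer3 [Fact (Nat.Prime 3)] (P : Sylow 3 G) {q : ℕ} (hq : q = 5 ∨ q = 7) :
    ¬ q ∣ Nat.card (Subgroup.normalizer ((P : Subgroup G) : Set G)) := by
  intro hd
  haveI : Fact q.Prime := ⟨by rcases hq with rfl | rfl <;> norm_num⟩
  set N := Subgroup.normalizer ((P : Subgroup G) : Set G) with hN
  obtain ⟨x, hx⟩ := exists_prime_orderOf_dvd_card' q hd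
  have hxo : orderOf (x : G) = q := by rw [Subgroup.orderOf_coe, hx]
  haveI : ((P : Subgroup G).subgroupOf N).Normal := Subgroup.normal_in_normalizer
  set X := Subgroup.zpowers x with hX
  letI : MulAction X ((P : Subgroup G).subgroupOf N) :=
    MulAction.compHom _ ((MulAut.conjNormal (G := N) (H := (P : Subgroup G).subgroupOf N)).comp X.subtype)
  have hXp : IsPGroup q X := IsPGroup.of_card (n := 1) (by rw [hX, Nat.card_zpowers, hx, pow_one])
  have hm := hXp.card_modEq_card_fixedPoints ((P : Subgroup G).subgroupOf N)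
  rw [Nat.card_congr (Subgroup.subgroupOfEquivOfLe (Subgroup.le_normalizer)).toEquiv,
    show Nat.card (P : Subgroup G) = 9 from sylow3_card h P] at hm
  have h1 : Nat.card (MulAction.fixedPoints X ((P : Subgroup G).subgroupOf N)) ≤ 1 := by
    refine Finite.card_le_one_iff_subsingleton.2 ⟨fun a b => ?_⟩
    suffices ∀ a : MulAction.fixedPoints X ((P : Subgroup G).subgroupOf N), (a : (P : Subgroup G).subgroupOf N) = 1 from
      Subtype.ext ((this a).trans (this b).symm)
    intro a
    have h2 := a.2 ⟨x, Subgroup.mem_zpowers x⟩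
    have h3 : (x : G) * ((a.1 : N) : G) * (x : G)⁻¹ = ((a.1 : N) : G) :=
      congrArg (fun z : (P : Subgroup G).subgroupOf N => ((z : N) : G)) h2
    have hmem : ((a.1 : N) : G) ∈ Subgroup.centralizer ({(x : G)} : Set G) := by
      exact Subgroup.mem_centralizer_singleton_iff.2 (mul_inv_eq_iff_eq_mul.1 h3).symm
    have d1 := Subgroup.orderOf_dvd_natCard _ hmem
    rw [(cent_big h hq hxo).1] at d1
    have d2 : orderOf ((a.1 : N) : G) ∣ 9 := by
      rw [← sylow3_card h P]; exact Subgroup.orderOf_dvd_natCard _ a.1.2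
    have : orderOf ((a.1 : N) : G) ∣ 1 := by
      have := Nat.dvd_gcd d1 d2
      rcases hq with rfl | rfl <;> simpa using this
    exact Subtype.ext (Subtype.ext (orderOf_eq_one_iff.1 (Nat.dvd_one.1 this)))
  have h0 : 0 < Nat.card (MulAction.fixedPoints X ((P : Subgroup G).subgroupOf N)) := by
    haveI : Nonempty (MulAction.fixedPoints X ((P : Subgroup G).subgroupOf N)) := ⟨⟨1, fun t => map_one (MulAut.conjNormal (H := (P : Subgroup G).subgroupOf N) (t : N))⟩⟩
    exact Nat.card_pos
  rw [show Nat.card (MulAction.fixedPoints X ((P : Subgroup G).subgroupOf N)) = 1 by omega] at hm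
  rcases hq with rfl | rfl <;> exact absurd hm (by decide)

theorem sylow3_data [Fact (Nat.Prime 3)] (P : Sylow 3 G) :
    Nat.card (Sylow 3 G) = 70 ∧ Nat.card (Subgroup.normalizer ((P : Subgroup G) : Set G)) = 36 := by
  set N := Subgroup.normalizer ((P : Subgroup G) : Set G) with hN
  have hPN : (P : Subgroup G) ≤ N := Subgroup.le_normalizer
  have h9 : 9 ∣ Nat.card N := sylow3_card h P ▸ Subgroup.card_dvd_of_le hPN
  have hd : Nat.card N ∣ 2520 := h ▸ Subgroup.card_subgroup_dvd_card _
  have h5 := not_dvd_normalizer3 h P (Or.inl rfl)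
  have h7 := not_dvd_normalizer3 h P (Or.inr rfl)
  have hmul : Nat.card (Sylow 3 G) * Nat.card N = 2520 := by
    rw [P.card_eq_index_normalizer, ← h]
    exact Subgroup.index_mul_card _
  have h72 : Nat.card N ∣ 72 := by
    have c5 : Nat.Coprime (Nat.card N) 5 := Nat.coprime_comm.1 ((Nat.Prime.coprime_iff_not_dvd (by norm_num)).2 h5)
    have c7 : Nat.Coprime (Nat.card N) 7 := Nat.coprime_comm.1 ((Nat.Prime.coprime_iff_not_dvd (by norm_num)).2 h7)
    exact (Nat.Coprime.mul_right c5 c7).dvd_of_dvd_mul_right (show _ ∣ 72 * (5 * 7) by norm_num; exact hd)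
  have hmod := card_sylow_modEq_one 3 G
  obtain ⟨k, hk⟩ := h9
  rw [hk] at h72 hmul
  have hk8 : k ∣ 8 := Nat.dvd_of_mul_dvd_mul_left (show 0 < 9 by norm_num) h72
  have hk8' := Nat.le_of_dvd (by norm_num) hk8
  unfold Nat.ModEq at hmod
  have hk1 : k ≠ 1 := by
    rintro rfl
    have hle : N ≤ Subgroup.centralizer ((P : Subgroup G) : Set G) := by
      have hNP : N = (P : Subgroup G) := (Subgroup.eq_of_le_of_card_ge hPN (by
        rw [show Nat.card (P : Subgroup G) = 9 from sylow3_card h P, hk])).symm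
      intro x hx
      rw [hNP] at hx
      exact Subgroup.mem_centralizer_iff.2 fun y hy => congrArg Subtype.val
        ((sylow3_comm h P).is_comm.comm (⟨y, hy⟩ : (P : Subgroup G)) ⟨x, hx⟩)
    exact Fus.simple_no_complement (not_comm h) (p := 3) (by rw [h]; norm_num)
      ⟨P, _, inferInstance, MonoidHom.ker_transferSylow_isComplement' P hle⟩
  have hk8'' : k ≠ 8 := fun e => by
    subst e
    have h35 : Nat.card (Sylow 3 G) = 35 := by omega
    rw [h35] at hmod
    norm_num at hmod
  have hk2 : k ≠ 2 := fun e => by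
    subst e
    have h140 : Nat.card (Sylow 3 G) = 140 := by omega
    rw [h140] at hmod
    norm_num at hmod
  have : k = 4 := by interval_cases k <;> first | omega | (norm_num at hk8; done)
  subst this
  exact ⟨by omega, by omega⟩

end Cfsg.Agent.Block.SevenPts
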