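import Mathlib
import Cfsg.Agent.Lib.Block.SevenPts.Sylow
import Cfsg.Agent.Lib.Transfer.Residual

/-!
A simple group of order 2520: the Sylow 3-subgroups are self-centralizing, and the geometry of the
elements of order 3 with centralizer of order 36.
-/

set_option autoImplicit false
set_option linter.unusedSectionVars false

namespace Cfsg.Agent.Block.SevenPts

open Pointwise
open Cfsg Cfsg.Agent.Block

universe u

variable {G : Type u} [Group G] [Finite G]

/-- An element of order 3 with centralizer of order 36. -/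
def Line (a : G) : Prop := orderOf a = 3 ∧ Nat.card (Subgroup.centralizer ({a} : Set G)) = 36

/-- Generating the same subgroup of order 3. -/
def Ax (a b : G) : Prop := b = a ∨ b = a⁻¹

/-- Two commuting lines. -/
def Adj (a b : G) : Prop := Line a ∧ Line b ∧ Commute a b ∧ ¬ Ax a b

theorem ax_of_mem {a b : G} (ha : orderOf a = 3) (hb : b ∈ Subgroup.zpowers a) (hb1 : b ≠ 1) : Ax a b := by
  obtain ⟨i, hi, rfl⟩ : ∃ i : ℕ, i < 3 ∧ a ^ i = b := by
    obtain ⟨n, hn⟩ := (Submonoid.mem_powers_iff _ _).1 ((mem_powers_iff_mem_zpowers (x := a)).2 hb)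
    exact ⟨n % 3, Nat.mod_lt _ (by norm_num), by rw [← ha, pow_mod_orderOf]; exact hn⟩
  interval_cases i
  · simp at hb1
  · exact Or.inl (pow_one a)
  · refine Or.inr (eq_inv_of_mul_eq_one_left ?_)
    rw [← pow_succ, show 2 + 1 = orderOf a from ha.symm]
    exact pow_orderOf_eq_one a

theorem mem_of_ax {a b : G} (hb : Ax a b) : b ∈ Subgroup.zpowers a := by
  rcases hb with rfl | rfl
  · exact Subgroup.mem_zpowers _
  · exact inv_mem (Subgroup.mem_zpowers _)

theorem line_conj {a : G} (ha : Line a) (g : G) : Line (g * a * g⁻¹) := by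
  refine ⟨(MulEquiv.orderOf_eq (MulAut.conj g) a).trans ha.1, ha.2 ▸ (Nat.card_congr ?_).symm⟩
  refine (MulAut.conj g).toEquiv.subtypeEquiv fun x => ?_
  show x ∈ Subgroup.centralizer {a} ↔ g * x * g⁻¹ ∈ Subgroup.centralizer {g * a * g⁻¹}
  rw [Subgroup.mem_centralizer_singleton_iff, Subgroup.mem_centralizer_singleton_iff]
  constructor
  · intro e
    calc g * x * g⁻¹ * (g * a * g⁻¹) = g * (x * a) * g⁻¹ := by group
      _ = g * (a * x) * g⁻¹ := by rw [e]
      _ = _ := by group
  · intro e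
    calc x * a = g⁻¹ * (g * x * g⁻¹ * (g * a * g⁻¹)) * g := by group
      _ = g⁻¹ * (g * a * g⁻¹ * (g * x * g⁻¹)) * g := by rw [e]
      _ = _ := by group

theorem line_inv {a : G} (ha : Line a) : Line a⁻¹ := by
  refine ⟨by rw [orderOf_inv]; exact ha.1, ?_⟩
  have : Subgroup.centralizer ({a⁻¹} : Set G) = Subgroup.centralizer {a} := by
    ext x
    rw [Subgroup.mem_centralizer_singleton_iff, Subgroup.mem_centralizer_singleton_iff]
    exact Commute.inv_right_iff
  rw [this]; exact ha.2

theorem ax_conj {a b : G} (g : G) : Ax (g * a * g⁻¹) (g * b * g⁻¹) ↔ Ax a b := by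
  have : (g * a * g⁻¹)⁻¹ = g * a⁻¹ * g⁻¹ := by group
  simp only [Ax, this]
  simp

theorem adj_conj {a b : G} (h : Adj a b) (g : G) : Adj (g * a * g⁻¹) (g * b * g⁻¹) :=
  ⟨line_conj h.1 g, line_conj h.2.1 g, (Commute.conj_iff g).2 h.2.2.1, fun e => h.2.2.2 ((ax_conj g).1 e)⟩

theorem adj_symm {a b : G} (h : Adj a b) : Adj b a :=
  ⟨h.2.1, h.1, h.2.2.1.symm, fun e => h.2.2.2 (by rcases e with rfl | rfl <;> simp [Ax])⟩

theorem line_ne_one {a : G} (ha : Line a) : a ≠ 1 := fun e => by
  have := ha.1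
  rw [e, orderOf_one] at this
  norm_num at this

theorem inv_ne_self {a : G} (ha : Line a) : a⁻¹ ≠ a := fun e => by
  have h2 : a ^ 2 = 1 := by rw [pow_two]; nth_rw 1 [← e]; exact inv_mul_cancel a
  have := orderOf_dvd_of_pow_eq_one h2
  rw [ha.1] at this
  norm_num at this

variable [IsSimpleGroup G] (h : Nat.card G = 2520)
include h

theorem exists_not_commute [Fact (Nat.Prime 3)] (P : Sylow 3 G) {x : G} (hxP : x ∈ (P : Subgroup G))
    (hx1 : x ≠ 1) : ∃ s ∈ Subgroup.normalizer ((P : Subgroup G) : Set G), s * x * s⁻¹ ≠ x := by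
  by_contra hc
  push Not at hc
  obtain ⟨h1, -⟩ := Transfer.abelian_sylow_decomp P (sylow3_comm h P)
  have htop : pResidual 3 G = ⊤ := by
    rcases (inferInstance : (pResidual 3 G).Normal).eq_bot_or_eq_top with e | e
    · exfalso
      have hp := Transfer.isPGroup_quotient_pResidual (G := G) 3
      obtain ⟨n, hn⟩ := IsPGroup.iff_card.1 hp
      rw [← Subgroup.index, e, Subgroup.index_bot, h] at hn
      have h5 : 5 ∣ 3 ^ n := hn ▸ by norm_num
      have := Nat.Prime.dvd_of_dvd_pow (by norm_num) h5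
      norm_num at this
    · exact e
  refine hx1 (Subgroup.mem_bot.1 (h1 ▸ ⟨⟨hxP, htop ▸ Subgroup.mem_top x⟩, hxP, ?_⟩))
  exact Subgroup.mem_centralizer_iff.2 fun s hs => mul_inv_eq_iff_eq_mul.1 (hc s hs)

theorem comm_in [Fact (Nat.Prime 3)] {P : Sylow 3 G} {y z : G} (hy : y ∈ (P : Subgroup G))
    (hz : z ∈ (P : Subgroup G)) : Commute y z :=
  congrArg Subtype.val ((sylow3_comm h P).is_comm.comm (⟨y, hy⟩ : (P : Subgroup G)) ⟨z, hz⟩)

/-- The Sylow subgroups inside a subgroup of order dividing 72 containing two of them. -/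
theorem four_sylows [Fact (Nat.Prime 3)] {H : Subgroup G} (hH : Nat.card H ∣ 72) {P Q : Sylow 3 G}
    (hP : (P : Subgroup G) ≤ H) (hQ : (Q : Subgroup G) ≤ H) (hne : P ≠ Q) :
    Nat.card {R : Sylow 3 G // (R : Subgroup G) ≤ H} = 4 ∧ (Nat.card H = 36 ∨ Nat.card H = 72) ∧
      Nat.card (Subgroup.normalizer ((P : Subgroup G) : Set G) ⊓ H : Subgroup G) * 4 = Nat.card H := by
  have hbij : Nat.card {R : Sylow 3 G // (R : Subgroup G) ≤ H} = Nat.card (Sylow 3 H) := by
    refine Nat.card_eq_of_bijective (fun R => R.1.subtype R.2) ⟨fun R R' e => Subtype.ext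
      (Sylow.subtype_injective (hP := R.2) (hQ := R'.2) e), fun Y => ?_⟩
    have hY : Nat.card ((Y : Subgroup H).map H.subtype) = 3 ^ (Nat.card G).factorization 3 := by
      rw [Subgroup.card_map_of_injective H.subtype_injective, Y.card_eq_multiplicity,
        ← (P.subtype hP : Sylow 3 H).card_eq_multiplicity, ← P.card_eq_multiplicity, Sylow.coe_subtype]
      exact Nat.card_congr (Subgroup.subgroupOfEquivOfLe hP).toEquiv
    refine ⟨⟨Sylow.ofCard _ hY, by rw [Sylow.coe_ofCard]; exact Subgroup.map_subtype_le _⟩, Sylow.ext ?_⟩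
    simp only [Sylow.coe_subtype, Sylow.coe_ofCard]
    exact Subgroup.comap_map_eq_self_of_injective H.subtype_injective _
  obtain ⟨k, hk⟩ : 9 ∣ Nat.card H := sylow3_card h P ▸ Subgroup.card_dvd_of_le hP
  have hk8 : k ∣ 8 := Nat.dvd_of_mul_dvd_mul_left (show 0 < 9 by norm_num) (hk ▸ hH)
  have h1 := Sylow.card_dvd_index (P.subtype hP)
  have h2 := ((P.subtype hP : Sylow 3 H) : Subgroup H).card_mul_index
  rw [Sylow.coe_subtype] at h1 h2
  rw [Nat.card_congr (Subgroup.subgroupOfEquivOfLe hP).toEquiv, hk,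
    show Nat.card (P : Subgroup G) = 9 from sylow3_card h P] at h2
  rw [Nat.eq_of_mul_eq_mul_left (show 0 < 9 by norm_num) h2] at h1
  have hmod := card_sylow_modEq_one 3 H
  haveI : Nontrivial (Sylow 3 H) :=
    ⟨⟨P.subtype hP, Q.subtype hQ, fun e => hne (Sylow.subtype_injective (hP := hP) (hQ := hQ) e)⟩⟩
  have hgt : 1 < Nat.card (Sylow 3 H) := Finite.one_lt_card
  have hle := Nat.le_of_dvd (by norm_num) (h1.trans hk8)
  have h4 : Nat.card (Sylow 3 H) = 4 := by
    unfold Nat.ModEq at hmod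
    have h8 := h1.trans hk8
    generalize Nat.card (Sylow 3 H) = d at hle hgt hmod h8 ⊢
    interval_cases d <;> first | rfl | (norm_num at hmod; done) | (norm_num at h8; done)
  refine ⟨hbij.trans h4, ?_, ?_⟩
  · have hk4 : 4 ∣ k := h4 ▸ h1
    have := Nat.le_of_dvd (by norm_num) hk8
    rw [hk]
    interval_cases k <;> first | omega | (norm_num at hk4; done) | (norm_num at hk8; done)
  · have h3 := (Subgroup.normalizer (((P : Subgroup G).subgroupOf H : Subgroup H) : Set H)).card_mul_index
    have h5 : Nat.card (Sylow 3 H) =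
        (Subgroup.normalizer (((P : Subgroup G).subgroupOf H : Subgroup H) : Set H)).index :=
      (P.subtype hP).card_eq_index_normalizer
    rw [← Nat.card_congr (Subgroup.subgroupOfEquivOfLe (inf_le_right :
      Subgroup.normalizer ((P : Subgroup G) : Set G) ⊓ H ≤ H)).toEquiv, Subgroup.inf_subgroupOf_right,
      Subgroup.subgroupOf_normalizer_eq hP, ← h4, h5]
    exact h3

/-- An element centralizing the Sylow subgroup's intersection with a near one. -/
theorem near_gen [Fact (Nat.Prime 3)] {P Q : Sylow 3 G} (hQ : Q ∈ SmallOrd.near P) :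
    ∃ x : G, orderOf x = 3 ∧ (P : Subgroup G) ⊓ (Q : Subgroup G) = Subgroup.zpowers x ∧
      (P : Subgroup G) ≤ Subgroup.centralizer {x} ∧ (Q : Subgroup G) ≤ Subgroup.centralizer {x} ∧ P ≠ Q ∧
      Nat.card (Subgroup.centralizer ({x} : Set G)) ∣ 72 := by
  obtain ⟨-, -, hne, hcard⟩ := SmallOrd.near_normalizes hQ
  rw [show Nat.card P = 9 from sylow3_card h P] at hcard
  set D := (P : Subgroup G) ⊓ (Q : Subgroup G) with hD
  have hD3 : Nat.card D = 3 := by omega
  obtain ⟨x, hx⟩ := exists_prime_orderOf_dvd_card' (G := D) 3 (by rw [hD3])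
  have hxo : orderOf (x : G) = 3 := by rw [Subgroup.orderOf_coe, hx]
  have hcomm : ∀ R : Sylow 3 G, (x : G) ∈ (R : Subgroup G) → (R : Subgroup G) ≤ Subgroup.centralizer {(x : G)} := by
    intro R hR y hy
    exact Subgroup.mem_centralizer_singleton_iff.2
      (congrArg Subtype.val ((sylow3_comm h R).is_comm.comm (⟨y, hy⟩ : (R : Subgroup G)) ⟨x, hR⟩))
  refine ⟨x, hxo, (Subgroup.eq_of_le_of_card_ge (Subgroup.zpowers_le.2 x.2) ?_).symm, hcomm P x.2.1,
    hcomm Q x.2.2, hne, cent_dvd h (fun e => by rw [e, orderOf_one] at hxo; norm_num at hxo)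
      (by rw [hxo]; norm_num) (by rw [hxo]; norm_num)⟩
  rw [hD3, Nat.card_zpowers, hxo]

/-- There are near Sylow subgroups outside any one centralizer. -/
theorem near_two [Fact (Nat.Prime 3)] (P : Sylow 3 G) :
    ∃ Q R : Sylow 3 G, Q ∈ SmallOrd.near P ∧ R ∈ SmallOrd.near P ∧
      (P : Subgroup G) ⊓ (Q : Subgroup G) ≠ (P : Subgroup G) ⊓ (R : Subgroup G) := by
  have hmod := SmallOrd.card_modEq_near P
  rw [(sylow3_data h P).1] at hmod
  have h6 : 6 ≤ (SmallOrd.near P).ncard := by
    unfold Nat.ModEq at hmod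
    omega
  obtain ⟨Q, hQ⟩ := Set.nonempty_of_ncard_ne_zero (show (SmallOrd.near P).ncard ≠ 0 by omega)
  by_contra hc
  push Not at hc
  obtain ⟨x, hxo, hD, hPC, hQC, hne, h72⟩ := near_gen h hQ
  obtain ⟨h4, -, -⟩ := four_sylows h h72 hPC hQC hne
  have hsub : SmallOrd.near P ⊆ {R : Sylow 3 G | (R : Subgroup G) ≤ Subgroup.centralizer {x}} \ {P} := by
    intro R hR
    obtain ⟨-, -, hneR, -⟩ := SmallOrd.near_normalizes hR
    refine ⟨fun y hy => ?_, fun e => hneR (Set.mem_singleton_iff.1 e).symm⟩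
    have hxR : x ∈ (R : Subgroup G) := by
      have : x ∈ (P : Subgroup G) ⊓ (Q : Subgroup G) := hD ▸ Subgroup.mem_zpowers x
      exact ((hc Q R hQ hR) ▸ this).2
    exact Subgroup.mem_centralizer_singleton_iff.2
      (congrArg Subtype.val ((sylow3_comm h R).is_comm.comm (⟨y, hy⟩ : (R : Subgroup G)) ⟨x, hxR⟩))
  have := Set.ncard_le_ncard hsub (Set.toFinite _)
  have h4' : ({R : Sylow 3 G | (R : Subgroup G) ≤ Subgroup.centralizer {x}}).ncard = 4 :=
    (Nat.card_coe_set_eq _).symm.trans h4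
  rw [Set.ncard_sdiff_singleton_of_mem (show P ∈ {R : Sylow 3 G | (R : Subgroup G) ≤ Subgroup.centralizer {x}}
    from hPC), h4'] at this
  omega

/-- A Sylow 3-subgroup is its own centralizer. -/
theorem cent_sylow [Fact (Nat.Prime 3)] (P : Sylow 3 G) {g : G} (hg : ∀ y ∈ (P : Subgroup G), Commute g y) :
    g ∈ (P : Subgroup G) := by
  classical
  haveI : Fact (Nat.Prime 2) := ⟨Nat.prime_two⟩
  set C := Subgroup.centralizer ((P : Subgroup G) : Set G) with hC
  have hgC : g ∈ C := Subgroup.mem_centralizer_iff.2 fun y hy => ((hg y hy).symm).eq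
  set N := Subgroup.normalizer ((P : Subgroup G) : Set G) with hN
  have hPC : (P : Subgroup G) ≤ C := fun x hx => Subgroup.mem_centralizer_iff.2 fun y hy =>
    congrArg Subtype.val ((sylow3_comm h P).is_comm.comm (⟨y, hy⟩ : (P : Subgroup G)) ⟨x, hx⟩)
  by_contra hgP
  have hCN : C ≤ N := Subgroup.centralizer_le_normalizer _
  obtain ⟨k, hk⟩ : 9 ∣ Nat.card C := sylow3_card h P ▸ Subgroup.card_dvd_of_le hPC
  have hk4 : k ∣ 4 := by
    have := Subgroup.card_dvd_of_le hCN
    rw [hk, (sylow3_data h P).2, show (36 : ℕ) = 9 * 4 from rfl] at this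
    exact Nat.dvd_of_mul_dvd_mul_left (by norm_num) this
  have hk1 : k ≠ 1 := fun e => hgP (by
    have : (P : Subgroup G) = C := Subgroup.eq_of_le_of_card_ge hPC (by
      rw [hk, e, show Nat.card (P : Subgroup G) = 9 from sylow3_card h P])
    rw [this]; exact hgC)
  have hk4' : k ≠ 4 := fun e => by
    have hCeq : C = N := Subgroup.eq_of_le_of_card_ge hCN (by rw [hk, e, (sylow3_data h P).2])
    exact Fus.simple_no_complement (not_comm h) (p := 3) (by rw [h]; norm_num)
      ⟨P, _, inferInstance, MonoidHom.ker_transferSylow_isComplement' P hCeq.ge⟩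
  have hk2 : k = 2 := by
    have := Nat.le_of_dvd (by norm_num) hk4
    interval_cases k <;> first | omega | (norm_num at hk4; done)
  subst hk2
  obtain ⟨v', hv'⟩ := exists_prime_orderOf_dvd_card' (G := C) 2 (by rw [hk]; norm_num)
  obtain ⟨v, hvo, hvC⟩ : ∃ v : G, orderOf v = 2 ∧ v ∈ C :=
    ⟨v', by rw [Subgroup.orderOf_coe, hv'], v'.2⟩
  have hvP : ∀ y ∈ (P : Subgroup G), Commute v y := fun y hy => (Subgroup.mem_centralizer_iff.1 hvC y hy).symm
  have hv72 : Nat.card (Subgroup.centralizer ({v} : Set G)) ∣ 72 :=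
    cent_dvd h (fun e => by rw [e, orderOf_one] at hvo; norm_num at hvo) (by rw [hvo]; norm_num)
      (by rw [hvo]; norm_num)
  -- centralizers of near intersections coincide with the centralizer of `v`
  have key : ∀ (Q : Sylow 3 G), Q ∈ SmallOrd.near P → ∀ x : G,
      (P : Subgroup G) ⊓ (Q : Subgroup G) = Subgroup.zpowers x → orderOf x = 3 →
      Subgroup.centralizer ({x} : Set G) = Subgroup.centralizer {v} := by
    intro Q hQ x hD hxo
    obtain ⟨x', hx'o, hD', hPH', hQH', hne, h72'⟩ := near_gen h hQ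
    have hcx : Subgroup.centralizer ({x} : Set G) = Subgroup.centralizer {x'} := by
      rw [← cent_zpowers x, ← cent_zpowers x', ← hD, hD']
    set H := Subgroup.centralizer ({x} : Set G) with hH
    have hPH : (P : Subgroup G) ≤ H := hcx ▸ hPH'
    obtain ⟨-, hcases, hNH⟩ := four_sylows h (H := H) (by rw [hcx]; exact h72') hPH (by rw [hcx]; exact hQH') hne
    rw [← hN] at hNH
    have hxP : x ∈ (P : Subgroup G) := (show x ∈ (P : Subgroup G) ⊓ (Q : Subgroup G) from hD ▸ Subgroup.mem_zpowers x).1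
    have hCH : C ≤ H := fun y hy =>
      Subgroup.mem_centralizer_singleton_iff.2 (Subgroup.mem_centralizer_iff.1 hy x hxP).symm
    have hCle : C ≤ N ⊓ H := le_inf hCN hCH
    have hd := Subgroup.card_dvd_of_le hCle
    rw [hk] at hd
    have h72 : Nat.card H = 72 := by
      rcases hcases with e | e
      · exfalso
        rw [e] at hNH
        have : Nat.card (N ⊓ H : Subgroup G) = 9 := by omega
        rw [this] at hd
        norm_num at hd
      · exact e
    rw [h72] at hNH
    have hCeq : C = N ⊓ H := Subgroup.eq_of_le_of_card_ge hCle (by rw [hk]; omega)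
    have hle : Subgroup.normalizer (((P.subtype hPH : Sylow 3 H) : Subgroup H) : Set H) ≤
        Subgroup.centralizer (((P.subtype hPH : Sylow 3 H) : Subgroup H) : Set H) := by
      rw [Sylow.coe_subtype, ← Subgroup.subgroupOf_normalizer_eq hPH]
      intro y hy
      have hyC : (y : G) ∈ C := hCeq ▸ ⟨hy, y.2⟩
      exact Subgroup.mem_centralizer_iff.2 fun z hz => Subtype.ext (Subgroup.mem_centralizer_iff.1 hyC z hz)
    have hcomp := MonoidHom.ker_transferSylow_isComplement' (P.subtype hPH) hle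
    set M := (MonoidHom.transferSylow (P.subtype hPH) hle).ker with hM
    have hPc : Nat.card ((P.subtype hPH : Sylow 3 H) : Subgroup H) = 9 := by
      rw [Sylow.coe_subtype, Nat.card_congr (Subgroup.subgroupOfEquivOfLe hPH).toEquiv]
      exact sylow3_card h P
    have hM8 : Nat.card M = 8 := by
      have e := hcomp.card_mul
      rw [hPc, h72] at e
      omega
    have hMi : M.index = 9 := by rw [hcomp.symm.index_eq_card]; exact hPc
    haveI : M.Normal := MonoidHom.normal_ker _
    let vH : H := ⟨v, hCH hvC⟩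
    have hvH : vH ∈ M := by
      have h9 : vH ^ 9 ∈ M := hMi ▸ M.pow_index_mem vH
      have h2 : vH ^ 2 = 1 := Subtype.ext (by show v ^ 2 = 1; rw [← hvo, pow_orderOf_eq_one])
      rwa [show 9 = 2 * 4 + 1 from rfl, pow_succ, pow_mul, h2, one_pow, one_mul] at h9
    set PH := ((P.subtype hPH : Sylow 3 H) : Subgroup H) with hPHd
    letI : MulAction PH M := MulAction.compHom _ ((MulAut.conjNormal (G := H) (H := M)).comp PH.subtype)
    have hPp : IsPGroup 3 PH := (P.subtype hPH).isPGroup'
    have hfix_iff : ∀ m : M, m ∈ MulAction.fixedPoints PH M ↔ ∀ p ∈ PH, Commute p (m : H) := by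
      intro m
      constructor
      · intro hm p hp
        exact mul_inv_eq_iff_eq_mul.1 (congrArg Subtype.val (hm ⟨p, hp⟩))
      · intro hm p
        refine Subtype.ext ?_
        show (p : H) * (m : H) * (p : H)⁻¹ = m
        rw [(hm p p.2).eq, mul_inv_cancel_right]
    let F : Subgroup M := (Subgroup.centralizer (PH : Set H)).subgroupOf M
    have hF : ∀ m : M, m ∈ F ↔ m ∈ MulAction.fixedPoints PH M := fun m => by
      rw [hfix_iff, Subgroup.mem_subgroupOf, Subgroup.mem_centralizer_iff]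
      exact ⟨fun e p hp => e p hp, fun e p hp => e p hp⟩
    have hvF : ∀ p ∈ PH, Commute p vH := by
      intro p hp
      rw [hPHd, Sylow.coe_subtype] at hp
      exact Subtype.ext (hvP p hp).symm.eq
    have hF2 : Nat.card F = 2 := by
      have hm := hPp.card_modEq_card_fixedPoints M
      rw [← Nat.card_congr (Equiv.subtypeEquivRight hF), hM8] at hm
      have hd8 : Nat.card F ∣ 8 := hM8 ▸ Subgroup.card_subgroup_dvd_card F
      have hne8 : Nat.card F ≠ 8 := by
        intro e8
        have hFtop : F = ⊤ := Subgroup.eq_top_of_card_eq F (by rw [e8, hM8])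
        -- then `P` is central in `H`
        obtain ⟨y, hy, hyne⟩ : ∃ y ∈ (Q : Subgroup G), y ∉ (P : Subgroup G) := by
          by_contra hcc
          push Not at hcc
          exact hne (Sylow.ext (Q.3 P.isPGroup' fun z hz => hcc z hz))
        have hyH : y ∈ H := (hcx ▸ hQH') hy
        obtain ⟨⟨m, p⟩, he⟩ := hcomp.2 ⟨y, hyH⟩
        have hmc : ∀ p' ∈ PH, Commute p' (m : H) := (hfix_iff m).1 ((hF m).1 (hFtop ▸ Subgroup.mem_top m))
        have hPCy : ∀ z ∈ (P : Subgroup G), Commute y z := by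
          intro z hz
          have h1 : Commute (⟨z, hPH hz⟩ : H) (m : H) := hmc _ (by rw [hPHd, Sylow.coe_subtype]; exact hz)
          have h2 : Commute (⟨z, hPH hz⟩ : H) (p : H) := by
            have hp2 : ((p : H) : G) ∈ (P : Subgroup G) := p.2
            exact Subtype.ext (comm_in h hz hp2).eq
          have h3 := h1.mul_right h2
          rw [show (m : H) * (p : H) = ⟨y, hyH⟩ from he] at h3
          exact (congrArg Subtype.val h3.eq).symm
        have hyC : y ∈ C := Subgroup.mem_centralizer_iff.2 fun z hz => ((hPCy z hz).symm).eq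
        have hoy : orderOf y ∣ 9 := sylow3_card h Q ▸ Subgroup.orderOf_dvd_natCard _ hy
        have hPC18 : (P : Subgroup G).relIndex C = 2 := by
          have := ((P : Subgroup G).subgroupOf C).card_mul_index
          rw [Nat.card_congr (Subgroup.subgroupOfEquivOfLe hPC).toEquiv,
            show Nat.card (P : Subgroup G) = 9 from sylow3_card h P, hk] at this
          exact Nat.eq_of_mul_eq_mul_left (show 0 < 9 by norm_num) this
        obtain ⟨j, hj⟩ := exists_pow_eq_self_of_coprime (x := y) (n := 2)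
          (Nat.Coprime.coprime_dvd_right hoy (by norm_num))
        refine hyne ?_
        rw [← hj]
        refine Subgroup.pow_mem _ ?_ j
        have := Subgroup.mul_self_mem_of_index_two hPC18 (⟨y, hyC⟩ : C)
        rw [pow_two]
        exact this
      have hle8 := Nat.le_of_dvd (by norm_num) hd8
      unfold Nat.ModEq at hm
      generalize Nat.card F = f at hle8 hd8 hne8 hm ⊢
      interval_cases f <;> first | rfl | omega | (norm_num at hd8; done)
    have hFmem : ∀ m : M, m ∈ F → (m : H) = 1 ∨ (m : H) = vH := by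
      intro m hm
      by_contra hcon
      push Not at hcon
      have hv1 : vH ≠ 1 := fun e => by
        have : v = 1 := congrArg Subtype.val e
        rw [this, orderOf_one] at hvo
        norm_num at hvo
      have hvmem : (⟨vH, hvH⟩ : M) ∈ F := (hF _).2 ((hfix_iff _).2 hvF)
      have hsub : ({1, ⟨vH, hvH⟩, m} : Set M) ⊆ (F : Set M) := by
        intro t ht
        rcases ht with rfl | rfl | rfl
        · exact F.one_mem
        · exact hvmem
        · exact hm
      have hc3 := Set.ncard_le_ncard hsub (Set.toFinite _)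
      rw [Set.ncard_insert_of_notMem (by
          simp only [Set.mem_insert_iff, Set.mem_singleton_iff]
          rintro (e | e)
          · exact hv1 (congrArg Subtype.val e).symm
          · exact hcon.1 (congrArg Subtype.val e).symm) (Set.toFinite _),
        Set.ncard_pair (fun e => hcon.2 (congrArg Subtype.val e).symm), ← Nat.card_coe_set_eq,
        show Nat.card ((F : Set M)) = Nat.card F from rfl, hF2] at hc3
      norm_num at hc3
    -- `v` is central in `M`
    have hvM : ∀ m : M, Commute (m : H) vH := by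
      by_contra hcon
      push Not at hcon
      obtain ⟨m, hm⟩ := hcon
      set K : Subgroup M := Subgroup.centralizer {(⟨vH, hvH⟩ : M)} with hK
      have hK8 : Nat.card K ∣ 8 := hM8 ▸ Subgroup.card_subgroup_dvd_card K
      haveI : Nontrivial M := Finite.one_lt_card_iff_nontrivial.1 (by rw [hM8]; norm_num)
      have hMp : IsPGroup 2 M := IsPGroup.of_card (n := 3) (by rw [hM8]; norm_num)
      haveI := hMp.center_nontrivial
      obtain ⟨z, hz1⟩ := exists_ne (1 : Subgroup.center M)
      have hzK : (z : M) ∈ K := Subgroup.mem_centralizer_singleton_iff.2 (Subgroup.mem_center_iff.1 z.2 _).symm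
      have hvK : (⟨vH, hvH⟩ : M) ∈ K := Subgroup.mem_centralizer_singleton_iff.2 rfl
      have hzv : (z : M) ≠ ⟨vH, hvH⟩ := fun e => by
        have hc := Subgroup.mem_center_iff.1 z.2 m
        rw [e] at hc
        exact hm (congrArg Subtype.val hc)
      have hK3 : 3 ≤ Nat.card K := by
        have hsub : ({1, (z : M), ⟨vH, hvH⟩} : Set M) ⊆ (K : Set M) := by
          intro t ht
          rcases ht with rfl | rfl | rfl
          · exact K.one_mem
          · exact hzK
          · exact hvK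
        have := Set.ncard_le_ncard hsub (Set.toFinite _)
        have hv1 : (⟨vH, hvH⟩ : M) ≠ 1 := fun e => by
          have : v = 1 := congrArg (fun t : M => ((t : H) : G)) e
          rw [this, orderOf_one] at hvo
          norm_num at hvo
        rw [Set.ncard_insert_of_notMem (by
            simp only [Set.mem_insert_iff, Set.mem_singleton_iff]
            rintro (e | e)
            · exact hz1 (Subtype.ext e.symm)
            · exact hv1 e.symm) (Set.toFinite _), Set.ncard_pair hzv, ← Nat.card_coe_set_eq] at this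
        exact this
      have hKm : m ∉ K := fun e => hm (congrArg Subtype.val (Subgroup.mem_centralizer_singleton_iff.1 e))
      have hK4 : K.index = 2 := by
        have hmul := K.card_mul_index
        rw [hM8] at hmul
        have hidx : K.index ≠ 1 := fun e => hKm (Subgroup.index_eq_one.1 e ▸ Subgroup.mem_top m)
        have hle := Nat.le_of_dvd (by norm_num) hK8
        generalize Nat.card K = c at hK8 hK3 hle hmul
        interval_cases c <;> first | omega | (norm_num at hK8; done)
      -- the conjugate of `v` is fixed by `P`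
      have hfixed : m * ⟨vH, hvH⟩ * m⁻¹ ∈ MulAction.fixedPoints PH M := by
        rw [hfix_iff]
        intro p hp
        have hpv : (p : H) * vH * p⁻¹ = vH := by rw [(hvF p hp).eq, mul_inv_cancel_right]
        let m' : M := ⟨p * (m : H) * p⁻¹, ‹M.Normal›.conj_mem _ m.2 p⟩
        have hm'K : m' ∉ K := fun e => hKm (by
          have e' := Subgroup.mem_centralizer_singleton_iff.1 e
          have e'' : p * (m : H) * p⁻¹ * vH = vH * (p * (m : H) * p⁻¹) := congrArg Subtype.val e'
          refine Subgroup.mem_centralizer_singleton_iff.2 (Subtype.ext ?_)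
          show (m : H) * vH = vH * (m : H)
          rw [← hpv] at e''
          calc (m : H) * vH = p⁻¹ * (p * (m : H) * p⁻¹ * (p * vH * p⁻¹)) * p := by group
            _ = p⁻¹ * (p * vH * p⁻¹ * (p * (m : H) * p⁻¹)) * p := by rw [e'']
            _ = _ := by group)
        have hk' : m⁻¹ * m' ∈ K :=
          (Subgroup.mul_mem_iff_of_index_two hK4).2 ⟨fun e => absurd (inv_mem_iff.1 e) hKm, fun e => absurd e hm'K⟩
        have e' : (m : H)⁻¹ * (p * (m : H) * p⁻¹) * vH = vH * ((m : H)⁻¹ * (p * (m : H) * p⁻¹)) :=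
          congrArg Subtype.val (Subgroup.mem_centralizer_singleton_iff.1 hk')
        have : p * ((m : H) * vH * (m : H)⁻¹) * p⁻¹ = (m : H) * vH * (m : H)⁻¹ := by
          calc p * ((m : H) * vH * (m : H)⁻¹) * p⁻¹
              = (p * (m : H) * p⁻¹) * (p * vH * p⁻¹) * (p * (m : H) * p⁻¹)⁻¹ := by group
            _ = (m : H) * ((m : H)⁻¹ * (p * (m : H) * p⁻¹) * vH) * (p * (m : H) * p⁻¹)⁻¹ := by rw [hpv]; group
            _ = (m : H) * (vH * ((m : H)⁻¹ * (p * (m : H) * p⁻¹))) * (p * (m : H) * p⁻¹)⁻¹ := by rw [e']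
            _ = _ := by group
        exact mul_inv_eq_iff_eq_mul.1 this
      rcases hFmem _ ((hF _).2 hfixed) with e | e
      · have e' : (m : H) * vH * (m : H)⁻¹ = 1 := e
        have hv1 : vH = 1 := conj_eq_one_iff.1 e'
        have : v = 1 := congrArg Subtype.val hv1
        rw [this, orderOf_one] at hvo
        norm_num at hvo
      · exact hm (mul_inv_eq_iff_eq_mul.1 (show (m : H) * vH * (m : H)⁻¹ = vH from e))
    -- so `H` centralizes `v`
    refine Subgroup.eq_of_le_of_card_ge ?_ (by rw [h72]; exact Nat.le_of_dvd (by norm_num) hv72)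
    intro y hy
    obtain ⟨⟨m, p⟩, he⟩ := hcomp.2 ⟨y, hy⟩
    have h3 : Commute ((m : H) * (p : H)) vH := (hvM m).mul_left (hvF p p.2)
    rw [show (m : H) * (p : H) = ⟨y, hy⟩ from he] at h3
    exact Subgroup.mem_centralizer_singleton_iff.2 (congrArg Subtype.val h3.eq)
  obtain ⟨Q, R, hQ, hR, hne⟩ := near_two h P
  obtain ⟨x, hxo, hDx, hPx, hQx, hPQ, -⟩ := near_gen h hQ
  obtain ⟨x', hxo', hDx', hPx', hRx', hPR, -⟩ := near_gen h hR
  have e1 := key Q hQ x hDx hxo
  have e2 := key R hR x' hDx' hxo'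
  -- `x'` commutes with `Q`
  have hx'Q : x' ∈ (Q : Subgroup G) := by
    have hQle : (Q : Subgroup G) ≤ Subgroup.centralizer ((Subgroup.zpowers x' : Subgroup G) : Set G) := by
      rw [cent_zpowers, e2, ← e1]; exact hQx
    have hp' : IsPGroup 3 ((Q : Subgroup G) ⊔ Subgroup.zpowers x' : Subgroup G) :=
      IsPGroup.to_sup_of_normal_right' Q.isPGroup' (IsPGroup.of_card (n := 1) (by rw [Nat.card_zpowers, hxo', pow_one]))
        (hQle.trans (Subgroup.centralizer_le_normalizer _))
    exact (Q.3 hp' le_sup_left).le (Subgroup.mem_sup_right (Subgroup.mem_zpowers x'))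
  have hx'P : x' ∈ (P : Subgroup G) :=
    (show x' ∈ (P : Subgroup G) ⊓ (R : Subgroup G) from hDx' ▸ Subgroup.mem_zpowers x').1
  refine hne ?_
  rw [hDx, hDx']
  refine (Subgroup.eq_of_le_of_card_ge (Subgroup.zpowers_le.2 (hDx ▸ ⟨hx'P, hx'Q⟩)) ?_).symm
  rw [Nat.card_zpowers, Nat.card_zpowers, hxo, hxo']

/-- A near intersection is generated by a line. -/
theorem line_of_near [Fact (Nat.Prime 3)] {P Q : Sylow 3 G} (hQ : Q ∈ SmallOrd.near P) :
    ∃ x : G, Line x ∧ (P : Subgroup G) ⊓ (Q : Subgroup G) = Subgroup.zpowers x := by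
  obtain ⟨x, hxo, hD, hPH, hQH, hne, h72⟩ := near_gen h hQ
  refine ⟨x, ⟨hxo, ?_⟩, hD⟩
  obtain ⟨-, hcases, hNH⟩ := four_sylows h h72 hPH hQH hne
  rcases hcases with e | e
  · exact e
  exfalso
  set H := Subgroup.centralizer ({x} : Set G) with hH
  set N := Subgroup.normalizer ((P : Subgroup G) : Set G) with hN
  rw [e] at hNH
  have hxP : x ∈ (P : Subgroup G) :=
    (show x ∈ (P : Subgroup G) ⊓ (Q : Subgroup G) from hD ▸ Subgroup.mem_zpowers x).1
  have hx1 : x ≠ 1 := fun e' => by rw [e', orderOf_one] at hxo; norm_num at hxo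
  obtain ⟨r, ⟨hrN, hrH⟩, hrP⟩ : ∃ r ∈ N ⊓ H, r ∉ (P : Subgroup G) := by
    by_contra hc
    push Not at hc
    have := Subgroup.card_le_of_le (show (N ⊓ H : Subgroup G) ≤ (P : Subgroup G) from hc)
    rw [show Nat.card (P : Subgroup G) = 9 from sylow3_card h P] at this
    omega
  set PN := (P : Subgroup G).subgroupOf N with hPN
  haveI : PN.Normal := Subgroup.normal_in_normalizer
  have h4 : Nat.card (N ⧸ PN) = 2 ^ 2 := by
    have := Subgroup.card_eq_card_quotient_mul_card_subgroup PN
    rw [(sylow3_data h P).2, show Nat.card PN = 9 from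
      (Nat.card_congr (Subgroup.subgroupOfEquivOfLe Subgroup.le_normalizer).toEquiv).trans (sylow3_card h P)] at this
    norm_num
    omega
  haveI : Fact (Nat.Prime 2) := ⟨Nat.prime_two⟩
  have hab := IsPGroup.isMulCommutative_of_card_eq_prime_sq h4
  obtain ⟨s, hs, hsx⟩ := exists_not_commute h P hxP hx1
  set y := s * x * s⁻¹ with hy
  have hrs : (s * r)⁻¹ * (r * s) ∈ (P : Subgroup G) := by
    have key : ∀ y z : N, (y : N ⧸ PN) = (z : N ⧸ PN) → (y : G)⁻¹ * (z : G) ∈ (P : Subgroup G) :=
      fun y z e => (QuotientGroup.eq (s := PN)).1 e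
    have h1 : ((⟨s, hs⟩ * ⟨r, hrN⟩ : N) : N ⧸ PN) = ((⟨r, hrN⟩ * ⟨s, hs⟩ : N) : N ⧸ PN) := by
      rw [QuotientGroup.mk_mul, QuotientGroup.mk_mul]
      exact hab.is_comm.comm _ _
    exact key _ _ h1
  have hyP : y ∈ (P : Subgroup G) := (Subgroup.mem_set_normalizer_iff.1 hs x).1 hxP
  have hry : Commute r y := by
    set p := (s * r)⁻¹ * (r * s) with hp
    have hpx : Commute p x := congrArg Subtype.val
      ((sylow3_comm h P).is_comm.comm (⟨p, hrs⟩ : (P : Subgroup G)) ⟨x, hxP⟩)
    have hrx : Commute r x := Subgroup.mem_centralizer_singleton_iff.1 hrH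
    have e1 : r * s = s * r * p := by rw [hp]; group
    show r * (s * x * s⁻¹) = s * x * s⁻¹ * r
    calc r * (s * x * s⁻¹) = (r * s) * x * s⁻¹ := by group
      _ = s * r * (p * x) * s⁻¹ := by rw [e1]; group
      _ = s * r * (x * p) * s⁻¹ := by rw [hpx.eq]
      _ = s * (r * x) * p * s⁻¹ := by group
      _ = s * (x * r) * p * s⁻¹ := by rw [hrx.eq]
      _ = s * x * s⁻¹ * ((s * r * p) * s⁻¹) := by group
      _ = s * x * s⁻¹ * ((r * s) * s⁻¹) := by rw [e1]
      _ = _ := by group
  have hyx : y ∈ Subgroup.zpowers x := by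
    by_contra hyx
    refine hrP (cent_sylow h P fun z hz => ?_)
    set S := Subgroup.centralizer ({r} : Set G) ⊓ (P : Subgroup G) with hS
    have hS9 : S = (P : Subgroup G) := by
      refine Subgroup.eq_of_le_of_card_ge inf_le_right ?_
      rw [show Nat.card (P : Subgroup G) = 9 from sylow3_card h P]
      have hle : Subgroup.zpowers x ≤ S := Subgroup.zpowers_le.2
        ⟨Subgroup.mem_centralizer_singleton_iff.2 (Subgroup.mem_centralizer_singleton_iff.1 hrH).symm, hxP⟩
      have hlt : Nat.card (Subgroup.zpowers x) < Nat.card S := by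
        refine lt_of_le_of_ne (Subgroup.card_le_of_le hle) fun e' => hyx ?_
        rw [Subgroup.eq_of_le_of_card_ge hle e'.ge]
        exact ⟨Subgroup.mem_centralizer_singleton_iff.2 hry.symm.eq, hyP⟩
      rw [Nat.card_zpowers, hxo] at hlt
      have hd : Nat.card S ∣ 9 := sylow3_card h P ▸ Subgroup.card_dvd_of_le inf_le_right
      have := Nat.le_of_dvd (by norm_num) hd
      generalize Nat.card S = c at hlt hd this
      interval_cases c <;> first | omega | (norm_num at hd; done)
    exact (Subgroup.mem_centralizer_singleton_iff.1 (hS9.ge hz).1).symm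
  have hyinv : y = x⁻¹ := by
    refine (ax_of_mem hxo hyx ?_).resolve_left hsx
    rw [hy]; exact fun e' => hx1 (conj_eq_one_iff.1 e')
  set K := Subgroup.normalizer ((Subgroup.zpowers x : Subgroup G) : Set G) with hK
  have hsK : s ∈ K := by
    refine Subgroup.mem_normalizer_iff.2 fun z => ?_
    have hmap : ∀ i : ℤ, s * x ^ i * s⁻¹ = x ^ (-i) := fun i => by
      rw [← conj_zpow, ← hy, hyinv, inv_zpow, zpow_neg]
    constructor
    · intro hz
      obtain ⟨i, rfl⟩ := Subgroup.mem_zpowers_iff.1 hz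
      rw [hmap]; exact Subgroup.zpow_mem _ (Subgroup.mem_zpowers x) _
    · intro hz
      obtain ⟨i, hi⟩ := Subgroup.mem_zpowers_iff.1 hz
      have : z = x ^ (-i) := by
        have h2 := hmap (-i)
        rw [neg_neg, hi] at h2
        exact mul_left_cancel (mul_right_cancel h2.symm)
      rw [this]; exact Subgroup.zpow_mem _ (Subgroup.mem_zpowers x) _
  have hHK : H ≤ K := by
    rw [hH, ← cent_zpowers]; exact Subgroup.centralizer_le_normalizer _
  have hidx : (H.subgroupOf K).index = 2 := by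
    rw [Subgroup.index_eq_two_iff]
    refine ⟨⟨s, hsK⟩, fun b => ?_⟩
    have hb : (b : G) * x * (b : G)⁻¹ = x ∨ (b : G) * x * (b : G)⁻¹ = x⁻¹ :=
      ax_of_mem hxo ((Subgroup.mem_normalizer_iff.1 b.2 x).1 (Subgroup.mem_zpowers x))
        (fun e' => hx1 (conj_eq_one_iff.1 e'))
    have hmem : ∀ g : G, g ∈ H ↔ g * x * g⁻¹ = x := fun g => by
      rw [hH, Subgroup.mem_centralizer_singleton_iff, mul_inv_eq_iff_eq_mul]
    have hne' : x⁻¹ ≠ x := fun e' => hsx (hyinv.trans e')
    have hbs : (b : G) * s * x * ((b : G) * s)⁻¹ = ((b : G) * x * (b : G)⁻¹)⁻¹ := by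
      calc (b : G) * s * x * ((b : G) * s)⁻¹ = (b : G) * (s * x * s⁻¹) * (b : G)⁻¹ := by group
        _ = (b : G) * x⁻¹ * (b : G)⁻¹ := by rw [← hy, hyinv]
        _ = _ := by group
    simp only [Subgroup.mem_subgroupOf, Subgroup.coe_mul]
    rw [hmem, hmem, hbs]
    rcases hb with hb | hb <;> rw [hb]
    · exact Or.inr ⟨rfl, hne'⟩
    · exact Or.inl ⟨inv_inv x, hne'⟩
  have h144 : Nat.card K = 144 := by
    have := (H.subgroupOf K).card_mul_index
    rw [hidx, Nat.card_congr (Subgroup.subgroupOfEquivOfLe hHK).toEquiv, e] at this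
    omega
  have hd : Nat.card K ∣ 2520 := h ▸ Subgroup.card_subgroup_dvd_card K
  rw [h144] at hd
  norm_num at hd

/-- In the centralizer of a line a Sylow 3-subgroup is self-normalizing. -/
theorem selfnorm [Fact (Nat.Prime 3)] {a : G} (ha : Line a) (P : Sylow 3 G) (haP : a ∈ (P : Subgroup G)) :
    (P : Subgroup G) ≤ Subgroup.centralizer {a} ∧
      Subgroup.normalizer ((P : Subgroup G) : Set G) ⊓ Subgroup.centralizer {a} = (P : Subgroup G) ∧
      Nat.card {R : Sylow 3 G // (R : Subgroup G) ≤ Subgroup.centralizer {a}} = 4 := by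
  set H := Subgroup.centralizer ({a} : Set G) with hH
  have hPH : (P : Subgroup G) ≤ H := fun y hy => Subgroup.mem_centralizer_singleton_iff.2
    (congrArg Subtype.val ((sylow3_comm h P).is_comm.comm (⟨y, hy⟩ : (P : Subgroup G)) ⟨a, haP⟩))
  obtain ⟨Q, hQH, hQP⟩ : ∃ Q : Sylow 3 G, (Q : Subgroup G) ≤ H ∧ Q ≠ P := by
    by_contra hc
    push Not at hc
    have hle : H ≤ Subgroup.normalizer ((P : Subgroup G) : Set G) := by
      intro g hg
      refine Sylow.smul_eq_iff_mem_normalizer.1 (hc (g • P) ?_)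
      rw [Sylow.coe_subgroup_smul]
      exact (Subgroup.pointwise_smul_le_pointwise_smul_iff.2 hPH).trans
        (Subgroup.conj_smul_eq_self_of_mem hg).le
    have heq := Subgroup.eq_of_le_of_card_ge hle (by
      rw [(sylow3_data h P).2]; exact ha.2.ge)
    obtain ⟨s, hs, hsa⟩ := exists_not_commute h P haP (line_ne_one ha)
    rw [← heq, hH, Subgroup.mem_centralizer_singleton_iff] at hs
    exact hsa (mul_inv_eq_iff_eq_mul.2 hs)
  obtain ⟨h4, -, hN⟩ := four_sylows h (show Nat.card H ∣ 72 by rw [hH, ha.2]; norm_num) hPH hQH (Ne.symm hQP)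
  refine ⟨hPH, (Subgroup.eq_of_le_of_card_ge (le_inf Subgroup.le_normalizer hPH) ?_).symm, h4⟩
  rw [show Nat.card (P : Subgroup G) = 9 from sylow3_card h P]
  rw [show Nat.card H = 36 from ha.2] at hN
  omega

theorem exists_sylow_mem [Fact (Nat.Prime 3)] {a : G} (ha : orderOf a = 3) :
    ∃ P : Sylow 3 G, a ∈ (P : Subgroup G) := by
  obtain ⟨P, hP⟩ := (IsPGroup.of_card (G := Subgroup.zpowers a) (p := 3) (n := 1) (by
    rw [Nat.card_zpowers, ha, pow_one])).exists_le_sylow
  exact ⟨P, hP (Subgroup.mem_zpowers a)⟩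

set_option maxHeartbeats 1600000 in
/-- The four-group of a line. -/
theorem four [Fact (Nat.Prime 3)] {a : G} (ha : Line a) (P : Sylow 3 G) (haP : a ∈ (P : Subgroup G)) :
    ∃ M : Subgroup G, Nat.card M = 4 ∧ M ≤ Subgroup.centralizer {a} ∧
      (∀ g ∈ Subgroup.centralizer ({a} : Set G), ∀ m ∈ M, g * m * g⁻¹ ∈ M) ∧
      (∀ m ∈ M, m * m = 1) ∧ (∀ x ∈ Subgroup.centralizer ({a} : Set G), x * x = 1 → x ∈ M) ∧
      ∀ g ∈ Subgroup.centralizer ({a} : Set G), ∃ m ∈ M, ∃ p ∈ (P : Subgroup G), g = m * p := by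
  obtain ⟨hPH, hN, -⟩ := selfnorm h ha P haP
  set H := Subgroup.centralizer ({a} : Set G) with hH
  have hle : Subgroup.normalizer (((P.subtype hPH : Sylow 3 H) : Subgroup H) : Set H) ≤
      Subgroup.centralizer (((P.subtype hPH : Sylow 3 H) : Subgroup H) : Set H) := by
    rw [Sylow.coe_subtype, ← Subgroup.subgroupOf_normalizer_eq hPH]
    intro y hy
    have hyP : (y : G) ∈ (P : Subgroup G) := hN.le ⟨hy, y.2⟩
    exact Subgroup.mem_centralizer_iff.2 fun z hz => Subtype.ext (comm_in h hz hyP).eq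
  have hcomp := MonoidHom.ker_transferSylow_isComplement' (P.subtype hPH) hle
  set M₀ := (MonoidHom.transferSylow (P.subtype hPH) hle).ker with hM₀
  have hPc : Nat.card ((P.subtype hPH : Sylow 3 H) : Subgroup H) = 9 := by
    rw [Sylow.coe_subtype, Nat.card_congr (Subgroup.subgroupOfEquivOfLe hPH).toEquiv]
    exact sylow3_card h P
  have hM4 : Nat.card M₀ = 4 := by
    have e := hcomp.card_mul
    rw [hPc, show Nat.card H = 36 from ha.2] at e
    omega
  have hMi : M₀.index = 9 := by rw [hcomp.symm.index_eq_card]; exact hPc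
  haveI : M₀.Normal := MonoidHom.normal_ker _
  refine ⟨M₀.map H.subtype, by rw [Subgroup.card_map_of_injective H.subtype_injective]; exact hM4,
    Subgroup.map_subtype_le _, ?_, ?_, ?_, ?_⟩
  · rintro g hg _ ⟨m, hm, rfl⟩
    have hmem : (⟨g, hg⟩ : H) * m * (⟨g, hg⟩ : H)⁻¹ ∈ M₀ := ‹M₀.Normal›.conj_mem m hm _
    refine ⟨(⟨g, hg⟩ : H) * m * (⟨g, hg⟩ : H)⁻¹, hmem, ?_⟩
    simp only [Subgroup.coe_subtype, Subgroup.coe_mul, InvMemClass.coe_inv]
  · rintro _ ⟨m, hm, rfl⟩
    by_contra hmm
    -- otherwise `M₀` is cyclic and centralized by `P`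
    have hmm' : ¬ (m * m = 1) := fun e => hmm (congrArg Subtype.val e)
    have ho : orderOf (⟨m, hm⟩ : M₀) = 4 := by
      have hd : orderOf (⟨m, hm⟩ : M₀) ∣ 4 := hM4 ▸ orderOf_dvd_natCard _
      have hle4 := Nat.le_of_dvd (by norm_num) hd
      have h2 : ¬ orderOf (⟨m, hm⟩ : M₀) ∣ 2 := fun e => hmm' (by
        have := orderOf_dvd_iff_pow_eq_one.1 e
        rw [pow_two] at this
        exact congrArg Subtype.val this)
      generalize orderOf (⟨m, hm⟩ : M₀) = o at hd h2 hle4 ⊢
      interval_cases o <;> first | rfl | (norm_num at hd; done) | (norm_num at h2; done)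
    have htop : Subgroup.zpowers (⟨m, hm⟩ : M₀) = ⊤ :=
      Subgroup.eq_top_of_card_eq _ (by rw [Nat.card_zpowers, ho, hM4])
    have hm4 : m ^ 4 = 1 := by
      have := pow_orderOf_eq_one (⟨m, hm⟩ : M₀)
      rw [ho] at this
      exact congrArg Subtype.val this
    have hP' : ∀ y ∈ (P : Subgroup G), Commute (m : G) y := by
      intro y hy
      let yH : H := ⟨y, hPH hy⟩
      have key : yH * yH * m * (yH * yH)⁻¹ = m := by
        have hc : yH * m * yH⁻¹ ∈ M₀ := ‹M₀.Normal›.conj_mem m hm yH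
        obtain ⟨i, hi, hii⟩ : ∃ i : ℕ, i < 4 ∧ m ^ i = yH * m * yH⁻¹ := by
          have hz : (⟨_, hc⟩ : M₀) ∈ Subgroup.zpowers (⟨m, hm⟩ : M₀) := htop ▸ Subgroup.mem_top _
          obtain ⟨n, hn⟩ := (Submonoid.mem_powers_iff _ _).1 ((mem_powers_iff_mem_zpowers (x := _)).2 hz)
          refine ⟨n % 4, Nat.mod_lt _ (by norm_num), ?_⟩
          have := congrArg Subtype.val hn
          simp only [SubmonoidClass.coe_pow] at this
          rw [← this]
          conv_rhs => rw [← Nat.mod_add_div n 4, pow_add, pow_mul, hm4, one_pow, mul_one]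
        have hodd : i = 1 ∨ i = 3 := by
          interval_cases i
          · rw [pow_zero] at hii
            exact absurd (conj_eq_one_iff.1 hii.symm) (fun e => hmm' (by rw [e, one_mul]))
          · exact Or.inl rfl
          · exfalso
            have h2 : (yH * m * yH⁻¹) * (yH * m * yH⁻¹) = 1 := by rw [← hii, ← pow_add]; exact hm4
            exact hmm' (conj_eq_one_iff.1 (show yH * (m * m) * yH⁻¹ = 1 by rw [← h2]; group))
          · exact Or.inr rfl
        calc yH * yH * m * (yH * yH)⁻¹ = yH * (yH * m * yH⁻¹) * yH⁻¹ := by group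
          _ = (yH * m * yH⁻¹) ^ i := by rw [conj_pow, ← hii]
          _ = m := by
            rw [← hii, ← pow_mul]
            rcases hodd with rfl | rfl
            · simp
            · rw [show 3 * 3 = 4 * 2 + 1 from rfl, pow_succ, pow_mul, hm4, one_pow, one_mul]
      have hoy : orderOf yH ∣ 9 := by
        rw [← Subgroup.orderOf_coe, ← sylow3_card h P]
        exact Subgroup.orderOf_dvd_natCard _ hy
      obtain ⟨j, hj⟩ := exists_pow_eq_self_of_coprime (x := yH) (n := 2)
        (Nat.Coprime.coprime_dvd_right hoy (by norm_num))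
      have hc2 : Commute (yH ^ 2) m := by
        rw [pow_two]
        exact mul_inv_eq_iff_eq_mul.1 key
      have hc3 : Commute yH m := hj ▸ hc2.pow_left j
      exact (congrArg Subtype.val hc3.eq).symm
    have hmP := cent_sylow h P hP'
    have h9 : orderOf (m : G) ∣ 9 := sylow3_card h P ▸ Subgroup.orderOf_dvd_natCard _ hmP
    have h4' : orderOf (m : G) ∣ 4 := orderOf_dvd_of_pow_eq_one (congrArg Subtype.val hm4)
    have : m = 1 := Subtype.ext (orderOf_eq_one_iff.1 (Nat.dvd_one.1 (by simpa using Nat.dvd_gcd h9 h4')))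
    exact hmm' (by rw [this, one_mul])
  · intro x hx hxx
    refine ⟨⟨x, hx⟩, ?_, rfl⟩
    have h9 : (⟨x, hx⟩ : H) ^ 9 ∈ M₀ := hMi ▸ M₀.pow_index_mem _
    rwa [show 9 = 2 * 4 + 1 from rfl, pow_succ, pow_mul,
      show (⟨x, hx⟩ : H) ^ 2 = 1 from Subtype.ext (by show x ^ 2 = 1; rw [pow_two]; exact hxx),
      one_pow, one_mul] at h9
  · intro g hg
    obtain ⟨⟨m, p⟩, he⟩ := hcomp.2 ⟨g, hg⟩
    exact ⟨((m : H) : G), ⟨m, m.2, rfl⟩, ((p : H) : G), p.2, (congrArg Subtype.val he).symm⟩

/-- The Sylow subgroup spanned by two commuting lines. -/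
theorem sylow_of_adj [Fact (Nat.Prime 3)] {a b : G} (hab : Adj a b) :
    ∃ P : Sylow 3 G, a ∈ (P : Subgroup G) ∧ b ∈ (P : Subgroup G) ∧
      ∀ x, Commute x a → Commute x b → x ∈ (P : Subgroup G) := by
  obtain ⟨ha, hb, hc, hn⟩ := hab
  have hle : Subgroup.zpowers a ≤ Subgroup.normalizer ((Subgroup.zpowers b : Subgroup G) : Set G) := by
    refine le_trans ?_ (Subgroup.centralizer_le_normalizer _)
    rw [cent_zpowers, Subgroup.zpowers_le, Subgroup.mem_centralizer_singleton_iff]
    exact hc.eq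
  have hp : IsPGroup 3 (Subgroup.zpowers a ⊔ Subgroup.zpowers b : Subgroup G) :=
    IsPGroup.to_sup_of_normal_right' (IsPGroup.of_card (n := 1) (by rw [Nat.card_zpowers, ha.1, pow_one]))
      (IsPGroup.of_card (n := 1) (by rw [Nat.card_zpowers, hb.1, pow_one])) hle
  obtain ⟨P, hP⟩ := hp.exists_le_sylow
  have haP : a ∈ (P : Subgroup G) := hP (Subgroup.mem_sup_left (Subgroup.mem_zpowers a))
  have hbP : b ∈ (P : Subgroup G) := hP (Subgroup.mem_sup_right (Subgroup.mem_zpowers b))
  refine ⟨P, haP, hbP, fun x hxa hxb => cent_sylow h P fun z hz => ?_⟩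
  set S := Subgroup.centralizer ({x} : Set G) ⊓ (P : Subgroup G) with hS
  have hle' : Subgroup.zpowers a ≤ S :=
    Subgroup.zpowers_le.2 ⟨Subgroup.mem_centralizer_singleton_iff.2 hxa.symm.eq, haP⟩
  have hlt : 3 < Nat.card S := by
    have h1 := Subgroup.card_le_of_le hle'
    rw [Nat.card_zpowers, ha.1] at h1
    refine lt_of_le_of_ne h1 fun e => hn (ax_of_mem ha.1 ?_ (line_ne_one hb))
    rw [Subgroup.eq_of_le_of_card_ge hle' (by rw [Nat.card_zpowers, ha.1, ← e])]
    exact ⟨Subgroup.mem_centralizer_singleton_iff.2 hxb.symm.eq, hbP⟩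
  have hd : Nat.card S ∣ 9 := sylow3_card h P ▸ Subgroup.card_dvd_of_le inf_le_right
  have hS9 : S = (P : Subgroup G) := by
    refine Subgroup.eq_of_le_of_card_ge inf_le_right ?_
    rw [show Nat.card (P : Subgroup G) = 9 from sylow3_card h P]
    have := Nat.le_of_dvd (by norm_num) hd
    generalize Nat.card S = c at hlt hd this
    interval_cases c <;> first | omega | (norm_num at hd; done)
  exact (Subgroup.mem_centralizer_singleton_iff.1 (hS9.ge hz).1).symm

theorem adj_exists [Fact (Nat.Prime 3)] : ∃ a b : G, Adj a b := by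
  obtain ⟨P⟩ : Nonempty (Sylow 3 G) := inferInstance
  obtain ⟨Q, R, hQ, hR, hne⟩ := near_two h P
  obtain ⟨a, ha, hDa⟩ := line_of_near h hQ
  obtain ⟨b, hb, hDb⟩ := line_of_near h hR
  have haP : a ∈ (P : Subgroup G) :=
    (show a ∈ (P : Subgroup G) ⊓ (Q : Subgroup G) from hDa ▸ Subgroup.mem_zpowers a).1
  have hbP : b ∈ (P : Subgroup G) :=
    (show b ∈ (P : Subgroup G) ⊓ (R : Subgroup G) from hDb ▸ Subgroup.mem_zpowers b).1
  refine ⟨a, b, ha, hb, congrArg Subtype.val ((sylow3_comm h P).is_comm.comm (⟨a, haP⟩ : (P : Subgroup G)) ⟨b, hbP⟩),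
    fun hax => hne ?_⟩
  rw [hDa, hDb]
  refine (Subgroup.eq_of_le_of_card_ge (Subgroup.zpowers_le.2 (mem_of_ax hax)) ?_).symm
  rw [Nat.card_zpowers, Nat.card_zpowers, ha.1, hb.1]

/-- A Sylow subgroup carries only two axes of lines. -/
theorem two_in_sylow [Fact (Nat.Prime 3)] (P : Sylow 3 G) {a b c : G} (ha : Line a) (hb : Line b) (hc : Line c)
    (haP : a ∈ (P : Subgroup G)) (hbP : b ∈ (P : Subgroup G)) (hcP : c ∈ (P : Subgroup G)) :
    Ax a b ∨ Ax a c ∨ Ax b c := by
  classical
  by_contra hcon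
  push Not at hcon
  obtain ⟨hab, hac, hbc⟩ := hcon
  let f : Sylow 3 G → Subgroup G := fun Q => (P : Subgroup G) ⊓ (Q : Subgroup G)
  haveI := Fintype.ofFinite G
  haveI := Fintype.ofFinite (Sylow 3 G)
  set NR : Finset (Sylow 3 G) := (SmallOrd.near P).toFinset with hNR
  have hset : ∀ x : G, Line x → x ∈ (P : Subgroup G) → ∀ R : Sylow 3 G,
      (R ∈ SmallOrd.near P ∧ f R = Subgroup.zpowers x) ↔
        ((R : Subgroup G) ≤ Subgroup.centralizer {x} ∧ R ≠ P) := by
    intro x hx hxP R
    constructor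
    · rintro ⟨hR, hfR⟩
      have hxR : x ∈ (R : Subgroup G) := (show x ∈ f R by rw [hfR]; exact Subgroup.mem_zpowers x).2
      exact ⟨(selfnorm h hx R hxR).1, (SmallOrd.near_normalizes hR).2.2.1.symm⟩
    · rintro ⟨hRC, hRP⟩
      have hxR : x ∈ (R : Subgroup G) := cent_sylow h R fun y hy =>
        (Subgroup.mem_centralizer_singleton_iff.1 (hRC hy)).symm
      have hle : Subgroup.zpowers x ≤ f R := Subgroup.zpowers_le.2 ⟨hxP, hxR⟩
      have hd : Nat.card (f R) ∣ 9 := sylow3_card h P ▸ Subgroup.card_dvd_of_le inf_le_left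
      have h3 : Nat.card (f R) = 3 := by
        have h1 := Subgroup.card_le_of_le hle
        rw [Nat.card_zpowers, hx.1] at h1
        have hne9 : Nat.card (f R) ≠ 9 := fun e => hRP (by
          have heq : f R = (P : Subgroup G) := Subgroup.eq_of_le_of_card_ge inf_le_left (by
            rw [e]; exact (sylow3_card h P).le)
          exact Sylow.ext (P.3 R.isPGroup' (heq ▸ inf_le_right)))
        have := Nat.le_of_dvd (by norm_num) hd
        generalize Nat.card (f R) = k at h1 hd hne9 this ⊢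
        interval_cases k <;> first | omega | (norm_num at hd; done)
      refine ⟨?_, (Subgroup.eq_of_le_of_card_ge hle (by rw [h3, Nat.card_zpowers, hx.1])).symm⟩
      show (f R).relIndex (P : Subgroup G) = 3
      have hmul := ((f R).subgroupOf (P : Subgroup G)).card_mul_index
      rw [Nat.card_congr (Subgroup.subgroupOfEquivOfLe inf_le_left).toEquiv, h3,
        show Nat.card (P : Subgroup G) = 9 from sylow3_card h P] at hmul
      exact Nat.eq_of_mul_eq_mul_left (show 0 < 3 by norm_num) hmul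
  have hfib : ∀ D ∈ NR.image f, (NR.filter fun R => f R = D).card = 3 ∧
      ∃ x, Line x ∧ x ∈ (P : Subgroup G) ∧ D = Subgroup.zpowers x := by
    intro D hD
    obtain ⟨Q, hQ, rfl⟩ := Finset.mem_image.1 hD
    rw [hNR, Set.mem_toFinset] at hQ
    obtain ⟨x, hx, hDx⟩ := line_of_near h hQ
    have hxP : x ∈ (P : Subgroup G) := (show x ∈ f Q by rw [show f Q = _ from hDx]; exact Subgroup.mem_zpowers x).1
    refine ⟨?_, x, hx, hxP, hDx⟩
    obtain ⟨hPH, -, h4⟩ := selfnorm h hx P hxP
    have heq : ((NR.filter fun R => f R = f Q : Finset (Sylow 3 G)) : Set (Sylow 3 G)) =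
        {R : Sylow 3 G | (R : Subgroup G) ≤ Subgroup.centralizer {x}} \ {P} := by
      ext R
      simp only [hNR, Finset.coe_filter, Set.mem_toFinset, Set.mem_setOf_eq, Set.mem_sdiff, Set.mem_singleton_iff]
      rw [show f Q = Subgroup.zpowers x from hDx]
      exact hset x hx hxP R
    rw [← Set.ncard_coe_finset, heq, Set.ncard_sdiff_singleton_of_mem
      (show P ∈ {R : Sylow 3 G | (R : Subgroup G) ≤ Subgroup.centralizer {x}} from hPH), ← Nat.card_coe_set_eq,
      show Nat.card {R : Sylow 3 G | (R : Subgroup G) ≤ Subgroup.centralizer {x}} = 4 from h4]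
  have hcount : NR.card = (NR.image f).card * 3 := by
    rw [Finset.card_eq_sum_card_image f, Finset.sum_const_nat (m := 3)]
    exact fun D hD => (hfib D hD).1
  have hmod := SmallOrd.card_modEq_near P
  rw [(sylow3_data h P).1, Set.ncard_eq_toFinset_card' (SmallOrd.near P), ← hNR, hcount] at hmod
  -- each given axis occurs
  have hin : ∀ x, Line x → x ∈ (P : Subgroup G) → Subgroup.zpowers x ∈ NR.image f := by
    intro x hx hxP
    obtain ⟨hPH, -, h4⟩ := selfnorm h hx P hxP
    obtain ⟨R, hR, hRP⟩ : ∃ R : Sylow 3 G, (R : Subgroup G) ≤ Subgroup.centralizer {x} ∧ R ≠ P := by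
      by_contra hc'
      push Not at hc'
      have : Nat.card {R : Sylow 3 G // (R : Subgroup G) ≤ Subgroup.centralizer {x}} ≤ 1 :=
        Finite.card_le_one_iff_subsingleton.2 ⟨fun r s => Subtype.ext ((hc' r r.2).trans (hc' s s.2).symm)⟩
      omega
    obtain ⟨h1, h2⟩ := (hset x hx hxP R).2 ⟨hR, hRP⟩
    exact Finset.mem_image.2 ⟨R, by rw [hNR, Set.mem_toFinset]; exact h1, h2⟩
  have hdist : ∀ x y : G, Line x → Line y → ¬ Ax x y → Subgroup.zpowers x ≠ Subgroup.zpowers y :=
    fun x y hx hy hn e => hn (ax_of_mem hx.1 (e ▸ Subgroup.mem_zpowers y) (line_ne_one hy))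
  have h3le : 3 ≤ (NR.image f).card := by
    have hsub : ({Subgroup.zpowers a, Subgroup.zpowers b, Subgroup.zpowers c} : Finset (Subgroup G)) ⊆ NR.image f := by
      intro D hD
      simp only [Finset.mem_insert, Finset.mem_singleton] at hD
      rcases hD with rfl | rfl | rfl
      · exact hin a ha haP
      · exact hin b hb hbP
      · exact hin c hc hcP
    refine le_trans ?_ (Finset.card_le_card hsub)
    rw [Finset.card_insert_of_notMem (by
        simp only [Finset.mem_insert, Finset.mem_singleton]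
        rintro (e | e)
        · exact hdist a b ha hb hab e
        · exact hdist a c ha hc hac e),
      Finset.card_pair (hdist b c hb hc hbc)]
  have h4le : (NR.image f).card ≤ 4 := by
    let S : Subgroup G → Finset G := fun D => Finset.univ.filter fun g => g ∈ D ∧ g ≠ 1
    have hS2 : ∀ D ∈ NR.image f, (S D).card = 2 := by
      intro D hD
      obtain ⟨-, x, hx, -, rfl⟩ := hfib D hD
      have : S (Subgroup.zpowers x) = {x, x⁻¹} := by
        ext g
        simp only [S, Finset.mem_filter, Finset.mem_univ, true_and, Finset.mem_insert, Finset.mem_singleton]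
        refine ⟨fun hg => ax_of_mem hx.1 hg.1 hg.2, fun hg => ?_⟩
        rcases hg with rfl | rfl
        · exact ⟨Subgroup.mem_zpowers _, line_ne_one hx⟩
        · exact ⟨inv_mem (Subgroup.mem_zpowers _), inv_ne_one.2 (line_ne_one hx)⟩
      rw [this, Finset.card_pair (inv_ne_self hx).symm]
    have hdisj : (NR.image f : Set (Subgroup G)).PairwiseDisjoint S := by
      intro D hD D' hD' hne
      simp only [Function.onFun]
      rw [Finset.disjoint_left]
      intro g hg hg'
      simp only [S, Finset.mem_filter, Finset.mem_univ, true_and] at hg hg'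
      obtain ⟨-, x, hx, -, rfl⟩ := hfib D hD
      obtain ⟨-, y, hy, -, rfl⟩ := hfib D' hD'
      refine hne ?_
      have e1 : Subgroup.zpowers g = Subgroup.zpowers x := Subgroup.eq_of_le_of_card_ge
        (Subgroup.zpowers_le.2 hg.1) (by
          rcases ax_of_mem hx.1 hg.1 hg.2 with rfl | rfl <;> simp)
      have e2 : Subgroup.zpowers g = Subgroup.zpowers y := Subgroup.eq_of_le_of_card_ge
        (Subgroup.zpowers_le.2 hg'.1) (by
          rcases ax_of_mem hy.1 hg'.1 hg'.2 with rfl | rfl <;> simp)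
      exact e1.symm.trans e2
    have hsub : (NR.image f).biUnion S ⊆ (Finset.univ.filter fun g => g ∈ (P : Subgroup G) ∧ g ≠ 1) := by
      intro g hg
      obtain ⟨D, hD, hgD⟩ := Finset.mem_biUnion.1 hg
      obtain ⟨-, x, -, hxP, rfl⟩ := hfib D hD
      simp only [S, Finset.mem_filter, Finset.mem_univ, true_and] at hgD ⊢
      exact ⟨(Subgroup.zpowers_le.2 hxP) hgD.1, hgD.2⟩
    have h1 := Finset.card_le_card hsub
    rw [Finset.card_biUnion hdisj, Finset.sum_const_nat (m := 2) hS2] at h1
    have h8 : (Finset.univ.filter fun g => g ∈ (P : Subgroup G) ∧ g ≠ 1).card = 8 := by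
      rw [show (Finset.univ.filter fun g => g ∈ (P : Subgroup G) ∧ g ≠ 1) =
        (Finset.univ.filter fun g => g ∈ (P : Subgroup G)).erase 1 by ext; simp [and_comm],
        Finset.card_erase_of_mem (by simp), ← Fintype.card_subtype, ← Nat.card_eq_fintype_card,
        show Nat.card {g // g ∈ (P : Subgroup G)} = 9 from sylow3_card h P]
    omega
  unfold Nat.ModEq at hmod
  generalize (NR.image f).card = r at hmod h3le h4le
  interval_cases r <;> norm_num at hmod

/-- Two lines commuting with a line: their axes are conjugate under its four-group. -/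
theorem two_axes [Fact (Nat.Prime 3)] {a b c : G} (hab : Adj a b) (hac : Adj a c) :
    ∃ v : G, Commute v a ∧ v * v = 1 ∧ Ax b (v * c * v⁻¹) := by
  obtain ⟨P, haP, hbP, -⟩ := sylow_of_adj h hab
  obtain ⟨Q, haQ, hcQ, -⟩ := sylow_of_adj h hac
  obtain ⟨M, -, hMH, -, hM2, -, hdec⟩ := four h hab.1 P haP
  obtain ⟨hPH, -, -⟩ := selfnorm h hab.1 P haP
  obtain ⟨hQH, -, -⟩ := selfnorm h hab.1 Q haQ
  set H := Subgroup.centralizer ({a} : Set G) with hH
  obtain ⟨g, hg⟩ := MulAction.exists_smul_eq H (P.subtype hPH) (Q.subtype hQH)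
  obtain ⟨m, hm, p, hp, hgm⟩ := hdec g g.2
  have hgH : (((g : G) • P : Sylow 3 G) : Subgroup G) ≤ H := by
    rw [Sylow.coe_subgroup_smul]
    exact (Subgroup.pointwise_smul_le_pointwise_smul_iff.2 hPH).trans (Subgroup.conj_smul_eq_self_of_mem g.2).le
  have hQP : (g : G) • P = Q := by
    refine Sylow.subtype_injective (N := H) (hP := hgH) (hQ := hQH) ?_
    rw [← hg]
    exact (Sylow.smul_subtype hPH g).symm
  have hpP : p • P = P := Sylow.smul_eq_iff_mem_normalizer.2 (Subgroup.le_normalizer hp)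
  have hmP : m • P = Q := by rw [← hQP, hgm, mul_smul, hpP]
  refine ⟨m, Subgroup.mem_centralizer_singleton_iff.1 (hMH hm), hM2 m hm, ?_⟩
  have hma : m * a * m⁻¹ = a := mul_inv_eq_iff_eq_mul.2 (Subgroup.mem_centralizer_singleton_iff.1 (hMH hm))
  have hminv : m⁻¹ = m := inv_eq_of_mul_eq_one_right (hM2 m hm)
  have hc' : m * c * m⁻¹ ∈ (P : Subgroup G) := by
    have : c ∈ MulAut.conj m • (P : Subgroup G) := by rw [← Sylow.coe_subgroup_smul, hmP]; exact hcQ
    rw [Subgroup.mem_pointwise_smul_iff_inv_smul_mem] at this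
    rw [hminv]
    simpa [hminv] using this
  rcases two_in_sylow h P hab.1 hab.2.1 (line_conj hac.2.1 m) haP hbP hc' with e | e | e
  · exact absurd e hab.2.2.2
  · rw [← hma] at e
    exact absurd ((ax_conj m).1 e) hac.2.2.2
  · exact e

/-- An element inverting a line inverts the axes of its centralizer modulo the four-group. -/
theorem inv_line [Fact (Nat.Prime 3)] {a b x : G} (hab : Adj a b) (hx : x * a * x⁻¹ = a⁻¹) :
    (b * (x * b * x⁻¹)) ^ 2 = 1 := by
  have hac : Adj a (x * b * x⁻¹) := by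
    obtain ⟨h1, h2, h3, h4⟩ := adj_conj hab x
    rw [hx] at h1 h3 h4
    refine ⟨hab.1, h2, by simpa using h3.inv_left, fun e => h4 ?_⟩
    rcases e with e | e <;> simp [Ax, e]
  obtain ⟨v, hva, hv2, hvb⟩ := two_axes h hab hac
  have hvinv : v⁻¹ = v := inv_eq_of_mul_eq_one_right hv2
  obtain ⟨P, haP, hbP, hP⟩ := sylow_of_adj h hab
  obtain ⟨M, -, hMH, hMn, hM2, hMx, -⟩ := four h hab.1 P haP
  rcases hvb with e | e
  · exfalso
    set y := v * x with hy
    have hya : y * a * y⁻¹ = a⁻¹ := by
      calc v * x * a * (v * x)⁻¹ = v * (x * a * x⁻¹) * v⁻¹ := by group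
        _ = v * a⁻¹ * v⁻¹ := by rw [hx]
        _ = a⁻¹ := by rw [hva.inv_right.eq, mul_inv_cancel_right]
    have hyb : y * b * y⁻¹ = b := by
      calc v * x * b * (v * x)⁻¹ = v * (x * b * x⁻¹) * v⁻¹ := by group
        _ = b := e
    have hyN : y ∈ Subgroup.normalizer ((P : Subgroup G) : Set G) := by
      refine Sylow.smul_eq_iff_mem_normalizer.1 (Sylow.ext ?_)
      symm
      rw [Sylow.coe_subgroup_smul]
      refine Subgroup.eq_of_le_of_card_ge ?_ (Nat.card_congr (Subgroup.equivSMul (MulAut.conj y) (P : Subgroup G)).toEquiv).ge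
      intro z hz
      rw [Subgroup.mem_pointwise_smul_iff_inv_smul_mem]
      have hza : Commute z a := congrArg Subtype.val
        ((sylow3_comm h P).is_comm.comm (⟨z, hz⟩ : (P : Subgroup G)) ⟨a, haP⟩)
      have hzb : Commute z b := congrArg Subtype.val
        ((sylow3_comm h P).is_comm.comm (⟨z, hz⟩ : (P : Subgroup G)) ⟨b, hbP⟩)
      have ea : y⁻¹ * a * y = a⁻¹ := by
        calc y⁻¹ * a * y = y⁻¹ * (y * a * y⁻¹)⁻¹ * y := by rw [hya, inv_inv]
          _ = _ := by group
      have eb : y⁻¹ * b * y = b := by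
        calc y⁻¹ * b * y = y⁻¹ * (y * b * y⁻¹) * y := by rw [hyb]
          _ = _ := by group
      have h1 : Commute (y⁻¹ * z * y) a := by
        have := (Commute.conj_iff y⁻¹).2 hza
        rw [inv_inv, ea] at this
        simpa using this.inv_right
      have h2 : Commute (y⁻¹ * z * y) b := by
        have := (Commute.conj_iff y⁻¹).2 hzb
        rw [inv_inv, eb] at this
        exact this
      simpa using hP _ h1 h2
    have hyP : y ∈ (P : Subgroup G) := (selfnorm h hab.2.1 P hbP).2.1.le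
      ⟨hyN, Subgroup.mem_centralizer_singleton_iff.2 (mul_inv_eq_iff_eq_mul.1 hyb)⟩
    have hc : Commute y a := congrArg Subtype.val
      ((sylow3_comm h P).is_comm.comm (⟨y, hyP⟩ : (P : Subgroup G)) ⟨a, haP⟩)
    rw [hc.eq, mul_inv_cancel_right] at hya
    exact inv_ne_self hab.1 hya.symm
  · have e' : x * b * x⁻¹ = v * b⁻¹ * v := by
      calc x * b * x⁻¹ = v⁻¹ * (v * (x * b * x⁻¹) * v⁻¹) * v := by group
        _ = v * b⁻¹ * v := by rw [e, hvinv]
    have hvM : v ∈ M := hMx v (Subgroup.mem_centralizer_singleton_iff.2 hva.eq) hv2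
    have hb' : b ∈ Subgroup.centralizer ({a} : Set G) :=
      Subgroup.mem_centralizer_singleton_iff.2 hab.2.2.1.symm.eq
    rw [e', show b * (v * b⁻¹ * v) = b * v * b⁻¹ * v by group, pow_two]
    exact hM2 _ (M.mul_mem (hMn b hb' v hvM) hvM)

theorem no_fix [Fact (Nat.Prime 3)] {a b u : G} (hab : Adj a b) (hu1 : u ≠ 1) (hu2 : u * u = 1)
    (hua : Commute u a) (hub : Commute u b) : False := by
  obtain ⟨P, -, -, hP⟩ := sylow_of_adj h hab
  have h9 : orderOf u ∣ 9 := sylow3_card h P ▸ Subgroup.orderOf_dvd_natCard _ (hP u hua hub)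
  have h2 : orderOf u ∣ 2 := orderOf_dvd_of_pow_eq_one (by rw [pow_two, hu2])
  exact hu1 (orderOf_eq_one_iff.1 (Nat.dvd_one.1 (by simpa using Nat.dvd_gcd h9 h2)))

theorem no_norm [Fact (Nat.Prime 3)] {a b u : G} (hab : Adj a b) (hu1 : u ≠ 1) (hu2 : u * u = 1)
    (hua : Commute u a) (hub : Ax b (u * b * u⁻¹)) : False := by
  rcases hub with e | e
  · exact no_fix h hab hu1 hu2 hua (mul_inv_eq_iff_eq_mul.1 e)
  obtain ⟨P, haP⟩ := exists_sylow_mem h hab.1.1
  obtain ⟨M, hM4, -, hMn, -, hMx, -⟩ := four h hab.1 P haP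
  have huM : u ∈ M := hMx u (Subgroup.mem_centralizer_singleton_iff.2 hua.eq) hu2
  have hb' : b ∈ Subgroup.centralizer ({a} : Set G) :=
    Subgroup.mem_centralizer_singleton_iff.2 hab.2.2.1.symm.eq
  have hmem : b * u * b⁻¹ * u⁻¹ ∈ M := M.mul_mem (hMn b hb' u huM) (inv_mem huM)
  have e' : b * u * b⁻¹ * u⁻¹ = b ^ 2 := by
    calc b * u * b⁻¹ * u⁻¹ = b * (u * b * u⁻¹)⁻¹ := by group
      _ = _ := by rw [e, inv_inv, pow_two]
  rw [e'] at hmem
  have h4 := Subgroup.orderOf_dvd_natCard _ hmem
  rw [hM4, orderOf_pow, hab.2.1.1] at h4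
  norm_num at h4

/-- An involution determines its line. -/
theorem axis_unique [Fact (Nat.Prime 3)] {a b u : G} (ha : Line a) (hb : Line b) (hu1 : u ≠ 1)
    (hu2 : u * u = 1) (hua : Commute u a) (hub : Commute u b) : Ax a b := by
  obtain ⟨P, haP⟩ := exists_sylow_mem h ha.1
  obtain ⟨M, hM4, hMH, hMn, hM2, hMx, -⟩ := four h ha P haP
  have hou : orderOf u = 2 := by
    haveI : Fact (Nat.Prime 2) := ⟨Nat.prime_two⟩
    exact orderOf_eq_prime (by rw [pow_two, hu2]) hu1
  set C := Subgroup.centralizer ({u} : Set G) with hC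
  have hC72 : Nat.card C ∣ 72 := cent_dvd h hu1 (by rw [hou]; norm_num) (by rw [hou]; norm_num)
  have hC9 : ¬ 9 ∣ Nat.card C := by
    intro hd
    obtain ⟨S, hS⟩ := Sylow.exists_subgroup_card_pow_prime (G := C) 3 (n := 2) (by simpa using hd)
    obtain ⟨R, hR⟩ := (IsPGroup.of_card (G := (S.map C.subtype : Subgroup G)) (p := 3) (n := 2)
      (by rw [Subgroup.card_map_of_injective C.subtype_injective, hS])).exists_le_sylow
    have heq : S.map C.subtype = (R : Subgroup G) := Subgroup.eq_of_le_of_card_ge hR (by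
      rw [Subgroup.card_map_of_injective C.subtype_injective, hS, show Nat.card (R : Subgroup G) = 9 from
        sylow3_card h R]; norm_num)
    have huR : u ∈ (R : Subgroup G) := cent_sylow h R fun y hy => by
      rw [← heq] at hy
      exact (Subgroup.mem_centralizer_singleton_iff.1 (Subgroup.map_subtype_le S hy)).symm
    have := sylow3_card h R ▸ Subgroup.orderOf_dvd_natCard _ huR
    rw [hou] at this
    norm_num at this
  have hC24 : Nat.card C ∣ 24 := by
    have hle := Nat.le_of_dvd (by norm_num) hC72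
    generalize Nat.card C = c at hC72 hC9 hle ⊢
    interval_cases c <;> first | omega | (norm_num at hC72; done) | norm_num
  set A := Subgroup.centralizer ({a} : Set G) ⊓ C with hA
  have huM : u ∈ M := hMx u (Subgroup.mem_centralizer_singleton_iff.2 hua.eq) hu2
  have hMA : M ≤ A := le_inf hMH fun m hm => Subgroup.mem_centralizer_singleton_iff.2 (by
    have e1 := hM2 _ (M.mul_mem hm huM)
    calc m * u = (m * u)⁻¹ := (inv_eq_of_mul_eq_one_right e1).symm
      _ = u⁻¹ * m⁻¹ := mul_inv_rev m u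
      _ = u * m := by rw [inv_eq_of_mul_eq_one_right hu2, inv_eq_of_mul_eq_one_right (hM2 m hm)])
  have haA : a ∈ A := ⟨Subgroup.mem_centralizer_singleton_iff.2 rfl,
    Subgroup.mem_centralizer_singleton_iff.2 hua.symm.eq⟩
  have h12 : Nat.card A = 12 := by
    have h1 : 4 ∣ Nat.card A := hM4 ▸ Subgroup.card_dvd_of_le hMA
    have h2 : 3 ∣ Nat.card A := ha.1 ▸ Subgroup.orderOf_dvd_natCard _ haA
    have h3 : Nat.card A ∣ 36 := ha.2 ▸ Subgroup.card_dvd_of_le inf_le_left
    have h4 : Nat.card A ∣ 24 := (Subgroup.card_dvd_of_le (inf_le_right : A ≤ C)).trans hC24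
    exact Nat.dvd_antisymm (show Nat.card A ∣ 12 by simpa using Nat.dvd_gcd h3 h4)
      (Nat.Coprime.mul_dvd_of_dvd_of_dvd (by norm_num : Nat.Coprime 4 3) h1 h2)
  have hbC : b ∈ C := Subgroup.mem_centralizer_singleton_iff.2 hub.symm.eq
  have hmul := (A.subgroupOf C).card_mul_index
  rw [Nat.card_congr (Subgroup.subgroupOfEquivOfLe (inf_le_right : A ≤ C)).toEquiv, h12] at hmul
  have hle := Nat.le_of_dvd (by norm_num) hC24
  have hbA : b ∈ A := by
    by_cases hi : (A.subgroupOf C).index = 1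
    · have : (⟨b, hbC⟩ : C) ∈ A.subgroupOf C := Subgroup.index_eq_one.1 hi ▸ Subgroup.mem_top _
      exact this
    · have hi0 : (A.subgroupOf C).index ≠ 0 := Subgroup.index_ne_zero_of_finite
      have hi2 : (A.subgroupOf C).index = 2 := by omega
      have := Subgroup.mul_self_mem_of_index_two hi2 (⟨b * b, mul_mem hbC hbC⟩ : C)
      have e : b * b * (b * b) = b := by
        have h3 : b ^ 3 = 1 := orderOf_dvd_iff_pow_eq_one.1 hb.1.dvd
        calc b * b * (b * b) = b ^ 3 * b := by simp [pow_succ, mul_assoc]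
          _ = b := by rw [h3, one_mul]
      exact e ▸ this
  by_contra hn
  exact no_fix h ⟨ha, hb, (Subgroup.mem_centralizer_singleton_iff.1 hbA.1).symm, hn⟩ hu1 hu2 hua hub

/-- Two axes commuting with a line determine it. -/
theorem mid_unique [Fact (Nat.Prime 3)] {a b d d' : G} (hda : Adj d a) (hdb : Adj d b) (hab : ¬ Ax a b)
    (hd' : Line d') (h'a : Commute d' a) (h'b : Commute d' b) : Ax d d' := by
  obtain ⟨v, hvd, hv2, hvb⟩ := two_axes h hda hdb
  have hvinv : v⁻¹ = v := inv_eq_of_mul_eq_one_right hv2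
  have hv1 : v ≠ 1 := by
    rintro rfl
    exact hab (by simpa using hvb)
  -- the conjugate of `a` commutes with `d'`
  have hc : Commute d' (v * a⁻¹ * v) := by
    rcases hvb with e | e
    · rw [show v * a⁻¹ * v = b⁻¹ by
        rw [← e, show (v * b * v⁻¹)⁻¹ = v * b⁻¹ * v⁻¹ by group]
        calc v * (v * b⁻¹ * v⁻¹) * v = (v * v) * b⁻¹ := by group
          _ = b⁻¹ := by rw [hv2, one_mul]]
      exact h'b.inv_right
    · rw [show v * a⁻¹ * v = b by
        rw [← e]
        calc v * (v * b * v⁻¹) * v = (v * v) * b := by group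
          _ = b := by rw [hv2, one_mul]]
      exact h'b
  obtain ⟨P, hdP⟩ := exists_sylow_mem h hda.1.1
  obtain ⟨M, -, hMH, hMn, hM2, hMx, -⟩ := four h hda.1 P hdP
  have hvM : v ∈ M := hMx v (Subgroup.mem_centralizer_singleton_iff.2 hvd.eq) hv2
  have ha' : a ∈ Subgroup.centralizer ({d} : Set G) :=
    Subgroup.mem_centralizer_singleton_iff.2 hda.2.2.1.symm.eq
  set t := a * v * a⁻¹ * v with ht
  have htM : t ∈ M := M.mul_mem (hMn a ha' v hvM) hvM
  have ht1 : t ≠ 1 := by
    intro e
    refine no_fix h hda hv1 hv2 hvd ?_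
    have e2 : a * v * a⁻¹ = v := by
      rw [← hvinv]
      exact eq_inv_of_mul_eq_one_left (by rw [hvinv]; exact e)
    exact (mul_inv_eq_iff_eq_mul.1 e2).symm
  have htd' : Commute t d' := by
    rw [ht, show a * v * a⁻¹ * v = a * (v * a⁻¹ * v) by group]
    exact (h'a.mul_right hc).symm
  exact axis_unique h hda.1 hd' ht1 (hM2 t htM) (Subgroup.mem_centralizer_singleton_iff.1 (hMH htM)) htd'

end Cfsg.Agent.Block.SevenPts
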