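import Mathlib
import Cfsg.Agent.Lib.Block.SevenPts.Local
import Cfsg.Agent.Lib.Block.SevenPts.AltFacts

/-!
A simple group of order 2520 contains five Carmichael generators, so is the alternating group of degree 7.
-/

set_option autoImplicit false
set_option linter.unusedSectionVars false

namespace Cfsg.Agent.Block.SevenPts

open Cfsg Cfsg.Agent.Block
open Cfsg.Agent.Lie.Carmichael (Pt ptI cyc pair_symm)

universe u

variable {G : Type u} [Group G] [Finite G]

/-- Two axes commuting with a common line, not with each other. -/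
def Tri (a b d : G) : Prop := Adj d a ∧ Adj d b ∧ ¬ Ax a b

theorem conj_sq {a b : G} (g : G) (h : (a * b) ^ 2 = 1) : ((g * a * g⁻¹) * (g * b * g⁻¹)) ^ 2 = 1 := by
  rw [show (g * a * g⁻¹) * (g * b * g⁻¹) = g * (a * b) * g⁻¹ by group, conj_pow, h, mul_one, mul_inv_cancel]

theorem adj_ax {d b c : G} (hdb : Adj d b) (hbc : Ax b c) : Adj d c := by
  obtain ⟨h1, h2, h3, h4⟩ := hdb
  rcases hbc with rfl | rfl
  · exact ⟨h1, h2, h3, h4⟩
  · exact ⟨h1, line_inv h2, h3.inv_right, fun e => h4 (by rcases e with e | e <;> simp_all [Ax, inv_eq_iff_eq_inv])⟩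

variable [IsSimpleGroup G] (h : Nat.card G = 2520) [Fact (Nat.Prime 3)]
include h

theorem tri_not_comm {a b d : G} (ht : Tri a b d) : ¬ Commute a b := by
  intro hc
  obtain ⟨hda, hdb, hab⟩ := ht
  obtain ⟨P, hdP, haP, hP⟩ := sylow_of_adj h hda
  have hbP : b ∈ (P : Subgroup G) := hP b hdb.2.2.1.symm hc.symm
  rcases two_in_sylow h P hda.1 hda.2.1 hdb.2.1 hdP haP hbP with e | e | e
  · exact hda.2.2.2 e
  · exact hdb.2.2.2 e
  · exact hab e

theorem four_ne_one {a : G} (ha : Line a) : ∃ u : G, u ≠ 1 ∧ u * u = 1 ∧ Commute u a := by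
  obtain ⟨P, haP⟩ := exists_sylow_mem h ha.1
  obtain ⟨M, hM4, hMH, -, hM2, -, -⟩ := four h ha P haP
  haveI : Nontrivial M := Finite.one_lt_card_iff_nontrivial.1 (by rw [hM4]; norm_num)
  obtain ⟨u, hu⟩ := exists_ne (1 : M)
  exact ⟨u, fun e => hu (Subtype.ext e), hM2 u u.2, Subgroup.mem_centralizer_singleton_iff.1 (hMH u.2)⟩

omit [Fact (Nat.Prime 3)] in
/-- An even product of two involutions centralizes a third. -/
theorem even_product {u w : G} (hu2 : u * u = 1) (hw2 : w * w = 1) (he : Even (orderOf (u * w))) :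
    ∃ z : G, z ≠ 1 ∧ z * z = 1 ∧ Commute z u ∧ Commute z w := by
  obtain ⟨k, hk⟩ := he
  have hpos := orderOf_pos (u * w)
  have hui : u⁻¹ = u := inv_eq_of_mul_eq_one_right hu2
  have hwi : w⁻¹ = w := inv_eq_of_mul_eq_one_right hw2
  set z := (u * w) ^ k with hz
  have hz2 : z * z = 1 := by rw [hz, ← pow_add, ← hk, pow_orderOf_eq_one]
  have hzi : z⁻¹ = z := inv_eq_of_mul_eq_one_right hz2
  have key : ∀ s : G, s * s = 1 → s * (u * w) * s⁻¹ = (u * w)⁻¹ → Commute z s := by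
    intro s hs e
    have h1 : s * z * s⁻¹ = z := by rw [hz, ← conj_pow, e, inv_pow, ← hz, hzi]
    exact (mul_inv_eq_iff_eq_mul.1 h1).symm
  refine ⟨z, pow_ne_one_of_lt_orderOf (by omega) (by omega), hz2, key u hu2 ?_, key w hw2 ?_⟩
  · rw [mul_inv_rev, hui, hwi, show u * (u * w) * u = (u * u) * (w * u) by group, hu2, one_mul]
  · rw [mul_inv_rev, hui, hwi, show w * (u * w) * w = w * u * (w * w) by group, hw2, mul_one]

theorem z_inverts {a b d u w z : G} (ht : Tri a b d) (hu1 : u ≠ 1) (hu2 : u * u = 1) (hua : Commute u a)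
    (hw1 : w ≠ 1) (hw2 : w * w = 1) (hwb : Commute w b) (hz1 : z ≠ 1) (hz2 : z * z = 1)
    (hzu : Commute z u) (hzw : Commute z w) :
    z * a * z⁻¹ = a⁻¹ ∧ z * b * z⁻¹ = b⁻¹ ∧ z * d * z⁻¹ = d⁻¹ := by
  obtain ⟨hda, hdb, hab⟩ := ht
  have hA : Ax a (z * a * z⁻¹) := by
    refine axis_unique h hda.2.1 (line_conj hda.2.1 z) hu1 hu2 hua ?_
    have := (Commute.conj_iff z).2 hua
    rwa [show z * u * z⁻¹ = u by rw [hzu.eq, mul_inv_cancel_right]] at this
  have hB : Ax b (z * b * z⁻¹) := by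
    refine axis_unique h hdb.2.1 (line_conj hdb.2.1 z) hw1 hw2 hwb ?_
    have := (Commute.conj_iff z).2 hwb
    rwa [show z * w * z⁻¹ = w by rw [hzw.eq, mul_inv_cancel_right]] at this
  have hD : Ax d (z * d * z⁻¹) := by
    have h1 := (Commute.conj_iff z).2 hda.2.2.1
    have h2 := (Commute.conj_iff z).2 hdb.2.2.1
    refine mid_unique h hda hdb hab (line_conj hda.1 z) ?_ ?_
    · rcases hA with e | e <;> rw [e] at h1
      · exact h1
      · simpa using h1.inv_right
    · rcases hB with e | e <;> rw [e] at h2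
      · exact h2
      · simpa using h2.inv_right
  refine ⟨hA.resolve_left fun e => no_norm h (adj_symm hda) hz1 hz2 (mul_inv_eq_iff_eq_mul.1 e) hD,
    hB.resolve_left fun e => no_norm h (adj_symm hdb) hz1 hz2 (mul_inv_eq_iff_eq_mul.1 e) hD,
    hD.resolve_left fun e => no_norm h hda hz1 hz2 (mul_inv_eq_iff_eq_mul.1 e) hA⟩

/-- Some product of involutions from lines with a common neighbour has odd order. -/
theorem exists_odd : ∃ a b d u w : G, Tri a b d ∧ u ≠ 1 ∧ u * u = 1 ∧ Commute u a ∧ w ≠ 1 ∧ w * w = 1 ∧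
    Commute w b ∧ Odd (orderOf (u * w)) := by
  obtain ⟨a, d, had⟩ := adj_exists h
  have hda := adj_symm had
  obtain ⟨v, hv1, hv2, hvd⟩ := four_ne_one h hda.1
  set b := v * a * v⁻¹ with hb
  have hdb : Adj d b := by
    have := adj_conj hda v
    rwa [show v * d * v⁻¹ = d by rw [hvd.eq, mul_inv_cancel_right]] at this
  have ht : Tri a b d := ⟨hda, hdb, fun e => no_norm h hda hv1 hv2 hvd e⟩
  obtain ⟨u, hu1, hu2, hua⟩ := four_ne_one h had.1
  obtain ⟨w, hw1, hw2, hwb⟩ := four_ne_one h hdb.2.1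
  set w' := d * w * d⁻¹ with hw'
  have hw'1 : w' ≠ 1 := fun e => hw1 (conj_eq_one_iff.1 e)
  have hw'2 : w' * w' = 1 := by
    rw [hw', show d * w * d⁻¹ * (d * w * d⁻¹) = d * (w * w) * d⁻¹ by group, hw2, mul_one, mul_inv_cancel]
  have hw'b : Commute w' b := by
    have := (Commute.conj_iff d).2 hwb
    rwa [show d * b * d⁻¹ = b by rw [hdb.2.2.1.eq, mul_inv_cancel_right]] at this
  rcases Nat.even_or_odd (orderOf (u * w)) with he | ho
  swap
  · exact ⟨a, b, d, u, w, ht, hu1, hu2, hua, hw1, hw2, hwb, ho⟩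
  rcases Nat.even_or_odd (orderOf (u * w')) with he' | ho
  swap
  · exact ⟨a, b, d, u, w', ht, hu1, hu2, hua, hw'1, hw'2, hw'b, ho⟩
  exfalso
  obtain ⟨z, hz1, hz2, hzu, hzw⟩ := even_product h hu2 hw2 he
  obtain ⟨z', hz'1, hz'2, hz'u, hz'w⟩ := even_product h hu2 hw'2 he'
  obtain ⟨za, zb, zd⟩ := z_inverts h ht hu1 hu2 hua hw1 hw2 hwb hz1 hz2 hzu hzw
  obtain ⟨za', zb', zd'⟩ := z_inverts h ht hu1 hu2 hua hw'1 hw'2 hw'b hz'1 hz'2 hz'u hz'w
  set y := z * z' with hy
  have hfix : ∀ t : G, z * t * z⁻¹ = t⁻¹ → z' * t * z'⁻¹ = t⁻¹ → Commute y t := by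
    intro t e e'
    refine mul_inv_eq_iff_eq_mul.1 ?_
    calc z * z' * t * (z * z')⁻¹ = z * (z' * t * z'⁻¹) * z⁻¹ := by group
      _ = (z * t * z⁻¹)⁻¹ := by rw [e']; group
      _ = t := by rw [e, inv_inv]
  obtain ⟨P, haP, hdP, hP⟩ := sylow_of_adj h had
  have hyP : y ∈ (P : Subgroup G) := hP y (hfix a za za') (hfix d zd zd')
  have hyu : Commute y u := hzu.mul_left hz'u
  have hy1 : y = 1 := by
    by_contra hy1
    by_cases hya : y ∈ Subgroup.zpowers a
    · have hyb : Commute y b := hfix b zb zb'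
      have : Commute a b := by
        rcases ax_of_mem had.1.1 hya hy1 with e | e <;> rw [e] at hyb
        · exact hyb
        · simpa using hyb.inv_left
      exact tri_not_comm h ht this
    · refine no_fix h had hu1 hu2 hua ?_
      set S := Subgroup.centralizer ({u} : Set G) ⊓ (P : Subgroup G) with hS
      have hle : Subgroup.zpowers a ≤ S :=
        Subgroup.zpowers_le.2 ⟨Subgroup.mem_centralizer_singleton_iff.2 hua.symm.eq, haP⟩
      have hlt : Nat.card (Subgroup.zpowers a) < Nat.card S := by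
        refine lt_of_le_of_ne (Subgroup.card_le_of_le hle) fun e => hya ?_
        rw [Subgroup.eq_of_le_of_card_ge hle e.ge]
        exact ⟨Subgroup.mem_centralizer_singleton_iff.2 hyu.eq, hyP⟩
      rw [Nat.card_zpowers, had.1.1] at hlt
      have hd' : Nat.card S ∣ 9 := sylow3_card h P ▸ Subgroup.card_dvd_of_le inf_le_right
      have hS9 : S = (P : Subgroup G) := by
        refine Subgroup.eq_of_le_of_card_ge inf_le_right ?_
        rw [show Nat.card (P : Subgroup G) = 9 from sylow3_card h P]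
        have := Nat.le_of_dvd (by norm_num) hd'
        generalize Nat.card S = c at hlt hd' this
        interval_cases c <;> first | omega | (norm_num at hd'; done)
      exact (Subgroup.mem_centralizer_singleton_iff.1 (hS9.ge hdP).1).symm
  have hzz : z = z' := by
    have h1 : z = z'⁻¹ := eq_inv_of_mul_eq_one_left hy1
    rw [h1, inv_eq_of_mul_eq_one_right hz'2]
  subst hzz
  -- `z` centralizes `w` and its conjugate by `d`
  refine no_fix h (adj_symm hdb) hw1 hw2 hwb ?_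
  have h1 : z * w' * z⁻¹ = w' := by rw [hz'w.eq, mul_inv_cancel_right]
  have h2 : d⁻¹ * w * d = d * w * d⁻¹ := by
    calc d⁻¹ * w * d = (z * d * z⁻¹) * (z * w * z⁻¹) * (z * d * z⁻¹)⁻¹ := by
          rw [zd, hzw.eq, mul_inv_cancel_right, inv_inv]
      _ = z * (d * w * d⁻¹) * z⁻¹ := by group
      _ = _ := h1
  have h3 : Commute (d * d) w := by
    show d * d * w = w * (d * d)
    calc d * d * w = d * (d * w * d⁻¹) * d := by group
      _ = d * (d⁻¹ * w * d) * d := by rw [h2]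
      _ = _ := by group
  have h4 : d * d * (d * d) = d := by
    have e3 : d ^ 3 = 1 := orderOf_dvd_iff_pow_eq_one.1 hda.1.1.dvd
    calc d * d * (d * d) = d ^ 3 * d := by simp [pow_succ, mul_assoc]
      _ = d := by rw [e3, one_mul]
  exact h4 ▸ (h3.mul_left h3).symm

theorem cube_eq_one {g : G} (hg : orderOf g ∣ 9) : g ^ 3 = 1 := by
  obtain ⟨a, d, had⟩ := adj_exists h
  obtain ⟨P, haP, hdP, -⟩ := sylow_of_adj h had
  obtain ⟨Q, hQ⟩ := (IsPGroup.of_card (G := Subgroup.zpowers g) (p := 3)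
    (n := (Nat.log 3 (orderOf g))) (by
      rw [Nat.card_zpowers]
      obtain ⟨i, hi, e⟩ := (Nat.dvd_prime_pow (by norm_num)).1 (show orderOf g ∣ 3 ^ 2 by norm_num; exact hg)
      rw [e, Nat.log_pow (by norm_num)])).exists_le_sylow
  obtain ⟨c, hc⟩ := MulAction.exists_smul_eq G Q P
  have hgP : c * g * c⁻¹ ∈ (P : Subgroup G) := by
    rw [← hc, Sylow.coe_subgroup_smul]
    exact Subgroup.smul_mem_pointwise_smul g (MulAut.conj c) _ (hQ (Subgroup.mem_zpowers g))
  suffices hx : (c * g * c⁻¹) ^ 3 = 1 by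
    rw [conj_pow] at hx
    exact conj_eq_one_iff.1 hx
  set x := c * g * c⁻¹ with hx
  by_contra hne
  have hox : orderOf x = 9 := by
    have hd : orderOf x ∣ 3 ^ 2 := by
      rw [show (3 : ℕ) ^ 2 = 9 by norm_num, ← sylow3_card h P]; exact Subgroup.orderOf_dvd_natCard _ hgP
    obtain ⟨i, hi, e⟩ := (Nat.dvd_prime_pow (by norm_num)).1 hd
    interval_cases i
    · exact absurd (orderOf_dvd_iff_pow_eq_one.1 (e ▸ one_dvd 3)) hne
    · exact absurd (orderOf_dvd_iff_pow_eq_one.1 (e ▸ dvd_rfl)) hne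
    · rw [e]; norm_num
  have hP : Subgroup.zpowers x = (P : Subgroup G) := Subgroup.eq_of_le_of_card_ge (Subgroup.zpowers_le.2 hgP)
    (by rw [Nat.card_zpowers, hox]; exact (sylow3_card h P).le)
  have key : ∀ t ∈ (P : Subgroup G), orderOf t = 3 → t ∈ Subgroup.zpowers (x ^ 3) := by
    intro t ht hto
    rw [← hP] at ht
    obtain ⟨i, rfl⟩ := Subgroup.mem_zpowers_iff.1 ht
    have h1 : x ^ (i * 3) = 1 := by
      rw [zpow_mul, show (3 : ℤ) = ((3 : ℕ) : ℤ) from rfl, zpow_natCast, ← hto, pow_orderOf_eq_one]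
    have h2 : (9 : ℤ) ∣ i * 3 := by
      have := orderOf_dvd_iff_zpow_eq_one.2 h1
      rwa [hox] at this
    obtain ⟨j, hj⟩ : (3 : ℤ) ∣ i := by omega
    exact ⟨j, by show (x ^ 3) ^ j = x ^ i; rw [hj, zpow_mul, zpow_ofNat]⟩
  have h3 : Nat.card (Subgroup.zpowers (x ^ 3)) = 3 := by
    rw [Nat.card_zpowers, orderOf_pow, hox]; norm_num
  have e1 : Subgroup.zpowers a = Subgroup.zpowers (x ^ 3) :=
    Subgroup.eq_of_le_of_card_ge (Subgroup.zpowers_le.2 (key a haP had.1.1))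
      (by rw [h3, Nat.card_zpowers, had.1.1])
  exact had.2.2.2 (ax_of_mem had.1.1 (e1 ▸ key d hdP had.2.1.1) (line_ne_one had.2.1))

/-- The order of the product is 3 or 5. -/
theorem odd_order {a b d u w : G} (ht : Tri a b d) (hu1 : u ≠ 1) (hu2 : u * u = 1) (hua : Commute u a)
    (hwb : Commute w b) (hw2 : w * w = 1) (ho : Odd (orderOf (u * w))) :
    orderOf (u * w) = 3 ∨ orderOf (u * w) = 5 := by
  have hui : u⁻¹ = u := inv_eq_of_mul_eq_one_right hu2
  have hwi : w⁻¹ = w := inv_eq_of_mul_eq_one_right hw2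
  set g := u * w with hg
  have hg1 : g ≠ 1 := by
    intro e
    have : u = w := by rw [← hwi]; exact eq_inv_of_mul_eq_one_left e
    exact ht.2.2 (axis_unique h ht.1.2.1 ht.2.1.2.1 hu1 hu2 hua (this ▸ hwb))
  have hgu : u * g * u⁻¹ = g⁻¹ := by
    rw [hg, mul_inv_rev, hui, hwi, show u * (u * w) * u = (u * u) * (w * u) by group, hu2, one_mul]
  have hpos := orderOf_pos g
  have hd : orderOf g ∣ 2520 := h ▸ orderOf_dvd_natCard g
  by_cases h7 : 7 ∣ orderOf g
  · exfalso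
    set s := g ^ (orderOf g / 7) with hs
    have hso : orderOf s = 7 := orderOf_pow_orderOf_div hpos.ne' h7
    obtain ⟨-, hN⟩ := cent_big h (Or.inr rfl) hso
    rw [if_neg (by norm_num)] at hN
    have hus : u * s * u⁻¹ = s⁻¹ := by rw [hs, ← conj_pow, hgu, inv_pow]
    have humem : u ∈ Subgroup.normalizer ((Subgroup.zpowers s : Subgroup G) : Set G) := by
      have hmap : ∀ i : ℤ, u * s ^ i * u⁻¹ = s ^ (-i) := fun i => by rw [← conj_zpow, hus, inv_zpow, zpow_neg]
      refine Subgroup.mem_normalizer_iff.2 fun z => ⟨fun hz => ?_, fun hz => ?_⟩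
      · obtain ⟨i, rfl⟩ := Subgroup.mem_zpowers_iff.1 hz
        rw [hmap]; exact Subgroup.zpow_mem _ (Subgroup.mem_zpowers s) _
      · obtain ⟨i, hi⟩ := Subgroup.mem_zpowers_iff.1 hz
        have h2 := hmap (-i)
        rw [neg_neg, hi] at h2
        rw [mul_left_cancel (mul_right_cancel h2.symm)]
        exact Subgroup.zpow_mem _ (Subgroup.mem_zpowers s) _
    haveI : Fact (Nat.Prime 2) := ⟨Nat.prime_two⟩
    have h2 : orderOf u ∣ 21 := by
      have := Subgroup.orderOf_dvd_natCard _ humem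
      rw [hN] at this
      exact this
    rw [orderOf_eq_prime (by rw [pow_two, hu2]) hu1] at h2
    norm_num at h2
  by_cases h5 : 5 ∣ orderOf g
  · right
    set s := g ^ (orderOf g / 5) with hs
    have hso : orderOf s = 5 := orderOf_pow_orderOf_div hpos.ne' h5
    obtain ⟨hC, -⟩ := cent_big h (Or.inl rfl) hso
    have hmem : g ∈ Subgroup.centralizer ({s} : Set G) :=
      Subgroup.mem_centralizer_singleton_iff.2 (Commute.self_pow g _).eq
    have := hC ▸ Subgroup.orderOf_dvd_natCard _ hmem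
    exact Nat.dvd_antisymm this h5
  left
  have h9 : orderOf g ∣ 9 := by
    have c5 : Nat.Coprime (orderOf g) 5 :=
      Nat.coprime_comm.1 ((Nat.Prime.coprime_iff_not_dvd (by norm_num)).2 h5)
    have c7 : Nat.Coprime (orderOf g) 7 :=
      Nat.coprime_comm.1 ((Nat.Prime.coprime_iff_not_dvd (by norm_num)).2 h7)
    have c8 : Nat.Coprime (orderOf g) 8 := by
      have := (Nat.coprime_two_right.2 ho).pow_right 3
      simpa using this
    have e : orderOf g ∣ 9 * (8 * (5 * 7)) := by norm_num; exact hd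
    exact (Nat.Coprime.mul_right c8 (Nat.Coprime.mul_right c5 c7)).dvd_of_dvd_mul_right e
  have h3 : orderOf g ∣ 3 := orderOf_dvd_of_pow_eq_one (cube_eq_one h h9)
  exact ((Nat.dvd_prime (by norm_num)).1 h3).resolve_left fun e => hg1 (orderOf_eq_one_iff.1 e)

/-- The key relation. -/
theorem pair_rel {a d u r : G} (ht : Tri a (r * r * a * (r * r)⁻¹) d) (hu1 : u ≠ 1) (hu2 : u * u = 1)
    (hua : Commute u a) (hur : u * r * u⁻¹ = r⁻¹) (hm : ¬ Commute (r * a * r⁻¹) a) :
    (a * (r * r * a * (r * r)⁻¹)) ^ 2 = 1 := by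
  set c := r * r * a * (r * r)⁻¹ with hc
  set s := r * u * r⁻¹ with hs
  have hs2 : s * s = 1 := by
    rw [hs, show r * u * r⁻¹ * (r * u * r⁻¹) = r * (u * u) * r⁻¹ by group, hu2, mul_one, mul_inv_cancel]
  have hsi : s⁻¹ = s := inv_eq_of_mul_eq_one_right hs2
  have hs' : s = r * r * u := by
    calc r * u * r⁻¹ = r * u * (u * r * u⁻¹) := by rw [hur]
      _ = r * (u * u) * r * u⁻¹ := by group
      _ = r * r * u := by rw [hu2, mul_one, inv_eq_of_mul_eq_one_right hu2]
  have hsa : s * a * s⁻¹ = c := by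
    rw [hc, hs']
    calc r * r * u * a * (r * r * u)⁻¹ = r * r * (u * a * u⁻¹) * (r * r)⁻¹ := by group
      _ = _ := by rw [hua.eq, mul_inv_cancel_right]
  have hsc : s * c * s⁻¹ = a := by
    rw [← hsa, hsi]
    calc s * (s * a * s) * s = (s * s) * a * (s * s) := by group
      _ = a := by rw [hs2, one_mul, mul_one]
  have hD : Ax d (s * d * s⁻¹) := by
    refine mid_unique h ht.1 ht.2.1 ht.2.2 (line_conj ht.1.1 s) ?_ ?_
    · have := (Commute.conj_iff s).2 ht.2.1.2.2.1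
      rwa [hsc] at this
    · have := (Commute.conj_iff s).2 ht.1.2.2.1
      rwa [hsa] at this
  have hs1 : s ≠ 1 := fun e => hu1 (conj_eq_one_iff.1 e)
  have hsm : Commute s (r * a * r⁻¹) := (Commute.conj_iff r).2 hua
  rcases hD with e | e
  · exfalso
    refine hm ?_
    rcases axis_unique h ht.1.1 (line_conj ht.1.2.1 r) hs1 hs2 (mul_inv_eq_iff_eq_mul.1 e) hsm with e' | e' <;>
      rw [e']
    · exact ht.1.2.2.1
    · exact ht.1.2.2.1.inv_left
  · have := inv_line h ht.1 e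
    rwa [hsa] at this

/-- Five Carmichael generators give an isomorphism with the alternating group of degree 7. -/
theorem iso_of_gens {I : Type} [DecidableEq I] [Fintype I] (hI : Fintype.card I = 5) (x : I → G)
    (h3 : ∀ i, x i ^ 3 = 1) (h2 : ∀ i j, i ≠ j → (x i * x j) ^ 2 = 1) (hne : ∃ i, x i ≠ 1) :
    Nonempty (G ≃* alternatingGroup (Fin 7)) := by
  obtain ⟨φ, hφ⟩ := exists_altHom x h3 h2
  haveI : IsSimpleGroup (alternatingGroup (Pt I)) := alternatingGroup.isSimpleGroup (by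
    rw [Nat.card_eq_fintype_card, Fintype.card_option, Fintype.card_option, hI]; norm_num)
  have hinj : Function.Injective φ := by
    rcases φ.normal_ker.eq_bot_or_eq_top with e | e
    · exact (MonoidHom.ker_eq_bot_iff φ).1 e
    · obtain ⟨i, hi⟩ := hne
      exact absurd ((hφ i).symm.trans (MonoidHom.mem_ker.1 (e ▸ Subgroup.mem_top _))) hi
  have hcard := Cfsg.Agent.Lie.Carmichael.card_alt (I := I)
  rw [hI] at hcard
  have hfac : (5 + 2).factorial = 5040 := rfl
  rw [hfac] at hcard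
  have hbij : Function.Bijective φ := hinj.bijective_of_nat_card_le (by
    rw [h]; omega)
  exact ⟨(MulEquiv.ofBijective φ hbij).symm.trans
    (Equiv.altCongrHom (Fintype.equivFinOfCardEq (α := Pt I) (n := 7) (by
      rw [Fintype.card_option, Fintype.card_option, hI])))⟩

/-- The case of a product of order 3. -/
theorem iso_three {a d u g : G} (hg : g ^ 3 = 1) (hu1 : u ≠ 1) (hu2 : u * u = 1) (hua : Commute u a)
    (hgu : u * g * u⁻¹ = g⁻¹) (ht : Tri a (g * a * g⁻¹) d) : Nonempty (G ≃* alternatingGroup (Fin 7)) := by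
  classical
  have hg2 : g ^ 2 * g ^ 2 = g := by
    calc g ^ 2 * g ^ 2 = g ^ 3 * g := by simp [pow_succ, mul_assoc]
      _ = g := by rw [hg, one_mul]
  have hnc := tri_not_comm h ht
  have ht' : Tri a (g ^ 2 * g ^ 2 * a * (g ^ 2 * g ^ 2)⁻¹) d := by rw [hg2]; exact ht
  have h01 : (a * (g * a * g⁻¹)) ^ 2 = 1 := by
    have := pair_rel h ht' hu1 hu2 hua (by rw [← conj_pow, hgu, inv_pow]) (fun hc => hnc ?_)
    · rwa [hg2] at this
    · have := (Commute.conj_iff g).2 hc
      rw [show g * (g ^ 2 * a * (g ^ 2)⁻¹) * g⁻¹ = g ^ 3 * a * (g ^ 3)⁻¹ by group, hg, one_mul, inv_one,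
        mul_one] at this
      exact this
  have hgi : g⁻¹ = g ^ 2 := inv_eq_of_mul_eq_one_right (by rw [← pow_succ']; exact hg)
  let x : Fin 3 → G := fun i => g ^ (i : ℕ) * a * (g ^ (i : ℕ))⁻¹
  have hx3 : ∀ i, x i ^ 3 = 1 := fun i => by
    show (g ^ (i : ℕ) * a * (g ^ (i : ℕ))⁻¹) ^ 3 = 1
    rw [conj_pow, orderOf_dvd_iff_pow_eq_one.1 ht.1.2.1.1.dvd, mul_one, mul_inv_cancel]
  have hx01 : (x 0 * x 1) ^ 2 = 1 := by simpa [x] using h01
  have hx12 : (x 1 * x 2) ^ 2 = 1 := by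
    have e := conj_sq g h01
    rw [show g * (g * a * g⁻¹) * g⁻¹ = g ^ 2 * a * (g ^ 2)⁻¹ by simp [pow_two, mul_assoc]] at e
    simpa [x] using e
  have hx20 : (x 2 * x 0) ^ 2 = 1 := by
    have e := conj_sq (g ^ 2) h01
    rw [show g ^ 2 * (g * a * g⁻¹) * (g ^ 2)⁻¹ = g ^ 3 * a * (g ^ 3)⁻¹ by group, hg, one_mul, inv_one,
      mul_one] at e
    simpa [x] using e
  have hx2 : ∀ i j, i ≠ j → (x i * x j) ^ 2 = 1 := by
    intro i j hij
    fin_cases i <;> fin_cases j
    all_goals first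
      | exact absurd rfl hij
      | exact hx01 | exact hx12 | exact hx20
      | exact pair_symm hx01 | exact pair_symm hx12 | exact pair_symm hx20
  obtain ⟨φ, hφ⟩ := exists_altHom x hx3 hx2
  have hda : Commute d a := ht.1.2.2.1
  have hc0 : Commute (φ (cyc 0)) d := by rw [hφ]; simpa [x] using hda.symm
  have hc1 : Commute (φ (cyc 1)) d := by rw [hφ]; simpa [x] using ht.2.1.2.2.1.symm
  have hst : ∀ k : alternatingGroup F5, k.1 (ptI 2) = ptI 2 → φ k * d * (φ k)⁻¹ = d := by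
    intro k hk
    obtain ⟨i, j, l, m, rfl⟩ := stab_last k hk
    rw [mul_inv_eq_iff_eq_mul, map_mul, map_mul, map_mul, map_pow, map_pow, map_pow, map_pow]
    exact ((((hc0.pow_left _).mul_left (hc1.pow_left _)).mul_left (hc0.pow_left _)).mul_left (hc1.pow_left _)).eq
  have hex : ∀ i : F5, ∃ k : alternatingGroup F5, k.1 (ptI 2) = i := by
    intro i
    rcases eq_or_ne i (ptI 2) with rfl | hne
    · exact ⟨1, rfl⟩
    · obtain ⟨k, -, hk⟩ := two_trans (ptI 2) i hne.symm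
      exact ⟨k, hk⟩
  choose K hK using hex
  let Y : F5 → G := fun i => φ (K i) * d * (φ (K i))⁻¹
  have hY : ∀ (k : alternatingGroup F5) (i : F5), φ k * Y i * (φ k)⁻¹ = Y (k.1 i) := by
    intro k i
    have hm : ((K (k.1 i))⁻¹ * (k * K i)).1 (ptI 2) = ptI 2 := by
      show (K (k.1 i)).1⁻¹ (k.1 ((K i).1 (ptI 2))) = ptI 2
      rw [hK, Equiv.Perm.inv_eq_iff_eq, hK]
    have e := hst _ hm
    rw [map_mul, map_inv, map_mul] at e
    show φ k * (φ (K i) * d * (φ (K i))⁻¹) * (φ k)⁻¹ = φ (K (k.1 i)) * d * (φ (K (k.1 i)))⁻¹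
    nth_rw 2 [← e]
    group
  have hY2 : Y (ptI 2) = d := hst _ (hK _)
  obtain ⟨s, hs1, hs2⟩ := exists_flip
  have hsa : φ s * a * (φ s)⁻¹ = a⁻¹ := by
    have e := congrArg φ hs2
    rw [map_mul, map_mul, map_inv, map_inv, hφ] at e
    simpa [x] using e
  have hbase : (Y (ptI 1) * Y (ptI 2)) ^ 2 = 1 := by
    refine pair_symm ?_
    rw [← hs1, ← hY s (ptI 2), hY2]
    exact inv_line h (adj_symm ht.1) hsa
  refine iso_of_gens h (I := F5) (by simp) Y (fun i => ?_) (fun i j hij => ?_) ⟨ptI 2, ?_⟩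
  · show (φ (K i) * d * (φ (K i))⁻¹) ^ 3 = 1
    rw [conj_pow, orderOf_dvd_iff_pow_eq_one.1 ht.1.1.1.dvd, mul_one, mul_inv_cancel]
  · obtain ⟨k, hk1, hk2⟩ := two_trans i j hij
    rw [← hk1, ← hk2, ← hY k, ← hY k]
    exact conj_sq (φ k) hbase
  · rw [hY2]; exact line_ne_one ht.1.1

/-- An element of the normalizer squaring `g` and fixing `u`. -/
theorem exists_squarer {u g : G} (hg : orderOf g = 5) (hu2 : u * u = 1) (hgu : u * g * u⁻¹ = g⁻¹) :
    ∃ ρ : G, ρ * g * ρ⁻¹ = g ^ 2 ∧ ρ * u * ρ⁻¹ = u := by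
  classical
  haveI := Fintype.ofFinite G
  have hui : u⁻¹ = u := inv_eq_of_mul_eq_one_right hu2
  obtain ⟨hC, hN⟩ := cent_big h (Or.inl rfl) hg
  rw [if_pos rfl] at hN
  set N := Subgroup.normalizer ((Subgroup.zpowers g : Subgroup G) : Set G)
  have hg5 : g ^ 5 = 1 := orderOf_dvd_iff_pow_eq_one.1 hg.dvd
  set T : Finset G := Finset.univ.filter fun s => s ∈ N with hT
  have hTc : T.card = 20 := by
    rw [hT, ← Fintype.card_subtype, ← Nat.card_eq_fintype_card]; exact hN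
  have himg : (T.image fun s => s * g * s⁻¹).card = 4 ∧
      ∀ y ∈ T.image (fun s => s * g * s⁻¹), y ∈ ({g, g ^ 2, g ^ 3, g ^ 4} : Finset G) := by
    have hsub : ∀ y ∈ T.image (fun s => s * g * s⁻¹), y ∈ ({g, g ^ 2, g ^ 3, g ^ 4} : Finset G) := by
      intro y hy
      obtain ⟨s, hs, rfl⟩ := Finset.mem_image.1 hy
      have hsN : s ∈ N := (Finset.mem_filter.1 hs).2
      obtain ⟨n, hn⟩ := (Submonoid.mem_powers_iff _ _).1 ((mem_powers_iff_mem_zpowers (x := g)).2
        ((Subgroup.mem_normalizer_iff.1 hsN g).1 (Subgroup.mem_zpowers g)))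
      rw [← hn, show g ^ n = g ^ (n % 5) by
        conv_lhs => rw [← Nat.mod_add_div n 5, pow_add, pow_mul, hg5, one_pow, mul_one]]
      have hne : n % 5 ≠ 0 := fun e => by
        rw [show g ^ n = g ^ (n % 5) by
          conv_lhs => rw [← Nat.mod_add_div n 5, pow_add, pow_mul, hg5, one_pow, mul_one], e, pow_zero] at hn
        have : g = 1 := conj_eq_one_iff.1 hn.symm
        rw [this, orderOf_one] at hg
        norm_num at hg
      have hlt : n % 5 < 5 := Nat.mod_lt _ (by norm_num)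
      generalize n % 5 = i at hne hlt
      interval_cases i <;> simp at hne ⊢
    refine ⟨le_antisymm ((Finset.card_le_card fun y hy => hsub y hy).trans Finset.card_le_four) ?_, hsub⟩
    have hfib : ∀ y ∈ T.image (fun s => s * g * s⁻¹), (T.filter fun s => s * g * s⁻¹ = y).card ≤ 5 := by
      intro y hy
      obtain ⟨s₀, hs₀, rfl⟩ := Finset.mem_image.1 hy
      have : (T.filter fun s => s * g * s⁻¹ = s₀ * g * s₀⁻¹) ⊆
          (Finset.univ.filter fun c => c ∈ Subgroup.centralizer ({g} : Set G)).image fun c => s₀ * c := by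
        intro s hs
        refine Finset.mem_image.2 ⟨s₀⁻¹ * s, Finset.mem_filter.2 ⟨Finset.mem_univ _, ?_⟩, by group⟩
        have e := (Finset.mem_filter.1 hs).2
        refine Subgroup.mem_centralizer_singleton_iff.2 ?_
        calc s₀⁻¹ * s * g = s₀⁻¹ * (s * g * s⁻¹) * s := by group
          _ = s₀⁻¹ * (s₀ * g * s₀⁻¹) * s := by rw [e]
          _ = _ := by group
      refine (Finset.card_le_card this).trans (Finset.card_image_le.trans ?_)
      rw [← Fintype.card_subtype, ← Nat.card_eq_fintype_card]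
      exact hC.le
    have := Finset.card_le_mul_card_image T 5 hfib
    omega
  have h2mem : g ^ 2 ∈ T.image fun s => s * g * s⁻¹ := by
    rw [Finset.eq_of_subset_of_card_le himg.2 (by rw [himg.1]; exact Finset.card_le_four)]
    simp
  obtain ⟨s, -, hs⟩ := Finset.mem_image.1 h2mem
  -- adjust to fix `u`
  set c := s * u * s⁻¹ * u with hc
  have hinv2 : s * u * s⁻¹ * g ^ 2 * (s * u * s⁻¹)⁻¹ = (g ^ 2)⁻¹ := by
    rw [← hs]
    calc s * u * s⁻¹ * (s * g * s⁻¹) * (s * u * s⁻¹)⁻¹ = s * (u * g * u⁻¹) * s⁻¹ := by group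
      _ = s * g⁻¹ * s⁻¹ := by rw [hgu]
      _ = _ := by group
  have hug2 : u * g ^ 2 * u⁻¹ = (g ^ 2)⁻¹ := by rw [← conj_pow, hgu, inv_pow]
  have hcg2 : Commute c (g ^ 2) := by
    refine mul_inv_eq_iff_eq_mul.1 ?_
    calc s * u * s⁻¹ * u * g ^ 2 * (s * u * s⁻¹ * u)⁻¹
        = (s * u * s⁻¹) * (u * g ^ 2 * u⁻¹) * (s * u * s⁻¹)⁻¹ := by group
      _ = ((s * u * s⁻¹) * g ^ 2 * (s * u * s⁻¹)⁻¹)⁻¹ := by rw [hug2]; group
      _ = g ^ 2 := by rw [hinv2, inv_inv]
  have hcg : Commute c g := by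
    have := hcg2.pow_right 3
    rwa [← pow_mul, show 2 * 3 = 5 + 1 from rfl, pow_succ, hg5, one_mul] at this
  obtain ⟨m, hm⟩ : ∃ m : ℕ, g ^ m = c := by
    have heq : Subgroup.zpowers g = Subgroup.centralizer ({g} : Set G) := Subgroup.eq_of_le_of_card_ge
      (Subgroup.zpowers_le.2 (Subgroup.mem_centralizer_singleton_iff.2 rfl)) (by rw [hC, Nat.card_zpowers, hg])
    have hcm : c ∈ Subgroup.zpowers g := heq ▸ Subgroup.mem_centralizer_singleton_iff.2 hcg.eq
    exact (Submonoid.mem_powers_iff _ _).1 ((mem_powers_iff_mem_zpowers (x := g)).2 hcm)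
  have hsu : s * u * s⁻¹ = g ^ m * u := by rw [hm, hc, mul_assoc _ u u, hu2, mul_one]
  set e := g ^ (2 * m) with he
  have hue : u * e⁻¹ = e * u := by
    have : u * e * u⁻¹ = e⁻¹ := by rw [he, ← conj_pow, hgu, inv_pow]
    rw [← this, hui]
    calc u * (u * e * u) = (u * u) * e * u := by group
      _ = _ := by rw [hu2, one_mul]
  refine ⟨e * s, ?_, ?_⟩
  · calc e * s * g * (e * s)⁻¹ = e * (s * g * s⁻¹) * e⁻¹ := by group
      _ = e * g ^ 2 * e⁻¹ := by rw [hs]
      _ = g ^ 2 := by rw [he, ← pow_add, add_comm, pow_add, mul_inv_cancel_right]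
  · calc e * s * u * (e * s)⁻¹ = e * (s * u * s⁻¹) * e⁻¹ := by group
      _ = e * (g ^ m * u) * e⁻¹ := by rw [hsu]
      _ = e * g ^ m * (u * e⁻¹) := by group
      _ = e * g ^ m * e * u := by rw [hue]; group
      _ = u := by
          rw [he, ← pow_add, ← pow_add, show 2 * m + m + 2 * m = 5 * m by ring, pow_mul, hg5, one_pow, one_mul]

/-- The case of a product of order 5. -/
theorem iso_five {a d u g : G} (hg : orderOf g = 5) (hu1 : u ≠ 1) (hu2 : u * u = 1) (hua : Commute u a)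
    (hgu : u * g * u⁻¹ = g⁻¹) (ht : Tri a (g * g * a * (g * g)⁻¹) d) :
    Nonempty (G ≃* alternatingGroup (Fin 7)) := by
  classical
  have hg5 : g ^ 5 = 1 := orderOf_dvd_iff_pow_eq_one.1 hg.dvd
  obtain ⟨ρ, hρg, hρu⟩ := exists_squarer h hg hu2 hgu
  have hρg2 : ρ * (g * g) * ρ⁻¹ = g ^ 4 := by
    calc ρ * (g * g) * ρ⁻¹ = (ρ * g * ρ⁻¹) * (ρ * g * ρ⁻¹) := by group
      _ = _ := by rw [hρg, ← pow_add]
  have hρa : Ax a (ρ * a * ρ⁻¹) := by
    refine axis_unique h ht.1.2.1 (line_conj ht.1.2.1 ρ) hu1 hu2 hua ?_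
    have := (Commute.conj_iff ρ).2 hua
    rwa [hρu] at this
  have hnc := tri_not_comm h ht
  have hm : ¬ Commute (g * a * g⁻¹) a := by
    intro hc
    refine hnc ?_
    have h1 := (Commute.conj_iff ρ).2 hc
    rw [show ρ * (g * a * g⁻¹) * ρ⁻¹ = (ρ * g * ρ⁻¹) * (ρ * a * ρ⁻¹) * (ρ * g * ρ⁻¹)⁻¹ by group, hρg,
      pow_two] at h1
    rcases hρa with e | e <;> rw [e] at h1
    · exact h1.symm
    · rw [show g * g * a⁻¹ * (g * g)⁻¹ = (g * g * a * (g * g)⁻¹)⁻¹ by simp [mul_assoc]] at h1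
      exact (Commute.inv_inv_iff.1 h1).symm
  have h02 : (a * (g * g * a * (g * g)⁻¹)) ^ 2 = 1 := pair_rel h ht hu1 hu2 hua hgu hm
  have h04 : (a * (g ^ 4 * a * (g ^ 4)⁻¹)) ^ 2 = 1 := by
    have e := conj_sq ρ h02
    rw [show ρ * (g * g * a * (g * g)⁻¹) * ρ⁻¹ = (ρ * (g * g) * ρ⁻¹) * (ρ * a * ρ⁻¹) * (ρ * (g * g) * ρ⁻¹)⁻¹ by
      group, hρg2] at e
    rcases hρa with e' | e' <;> rw [e'] at e
    · exact e
    · rw [show g ^ 4 * a⁻¹ * (g ^ 4)⁻¹ = (g ^ 4 * a * (g ^ 4)⁻¹)⁻¹ by group, ← mul_inv_rev, inv_pow,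
        inv_eq_one] at e
      exact pair_symm e
  let x : Fin 5 → G := fun i => g ^ (i : ℕ) * a * (g ^ (i : ℕ))⁻¹
  have hmod : ∀ n : ℕ, g ^ (n % 5) = g ^ n := fun n => by
    conv_rhs => rw [← Nat.mod_add_div n 5, pow_add, pow_mul, hg5, one_pow, mul_one]
  have hshift : ∀ i j k : ℕ, (i + k) % 5 = j % 5 →
      g ^ i * (g ^ k * a * (g ^ k)⁻¹) * (g ^ i)⁻¹ = g ^ j * a * (g ^ j)⁻¹ := by
    intro i j k hijk
    rw [show g ^ j = g ^ (i + k) by rw [← hmod j, ← hijk, hmod], pow_add]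
    group
  have hpair : ∀ i j : Fin 5, ((i : ℕ) + 2) % 5 = j ∨ ((i : ℕ) + 4) % 5 = j → (x i * x j) ^ 2 = 1 := by
    intro i j hij
    rcases hij with e | e
    · have e2 := conj_sq (g ^ (i : ℕ)) h02
      rwa [show g * g = g ^ 2 from (pow_two g).symm, hshift i j 2 (by omega)] at e2
    · have e2 := conj_sq (g ^ (i : ℕ)) h04
      rwa [hshift i j 4 (by omega)] at e2
  refine iso_of_gens h (I := Fin 5) (by simp) x (fun i => ?_) (fun i j hij => ?_) ⟨0, ?_⟩
  · show (g ^ (i : ℕ) * a * (g ^ (i : ℕ))⁻¹) ^ 3 = 1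
    rw [conj_pow, orderOf_dvd_iff_pow_eq_one.1 ht.1.2.1.1.dvd, mul_one, mul_inv_cancel]
  · have hne : (i : ℕ) ≠ j := fun e => hij (Fin.ext e)
    have := i.2
    have := j.2
    rcases (show ((i : ℕ) + 2) % 5 = j ∨ ((i : ℕ) + 4) % 5 = j ∨ ((j : ℕ) + 2) % 5 = i ∨ ((j : ℕ) + 4) % 5 = i by
      omega) with e | e | e | e
    · exact hpair i j (Or.inl e)
    · exact hpair i j (Or.inr e)
    · exact pair_symm (hpair j i (Or.inl e))
    · exact pair_symm (hpair j i (Or.inr e))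
  · simpa [x] using line_ne_one ht.1.2.1

/-- A simple group of order 2520 is isomorphic to the alternating group of degree 7. -/
theorem iso_seven : Nonempty (G ≃* alternatingGroup (Fin 7)) := by
  obtain ⟨a, b, d, u, w, ht, hu1, hu2, hua, hw1, hw2, hwb, ho⟩ := exists_odd h
  have hn := odd_order h ht hu1 hu2 hua hwb hw2 ho
  have hui : u⁻¹ = u := inv_eq_of_mul_eq_one_right hu2
  have hwi : w⁻¹ = w := inv_eq_of_mul_eq_one_right hw2
  set g := u * w with hg
  have hgu : u * g * u⁻¹ = g⁻¹ := by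
    rw [hg, mul_inv_rev, hui, hwi, show u * (u * w) * u = (u * u) * (w * u) by group, hu2, one_mul]
  have hw : g⁻¹ * u = w := by rw [hg, mul_inv_rev, mul_assoc, inv_mul_cancel, mul_one, hwi]
  -- the conjugator carrying `u` to `w`
  have hconj : ∀ k : ℕ, g ^ (2 * k + 1) = 1 → g ^ k * u * (g ^ k)⁻¹ = w := by
    intro k hk
    have h1 : u * g ^ k * u⁻¹ = (g ^ k)⁻¹ := by rw [← conj_pow, hgu, inv_pow]
    rw [← h1, hui, ← hw]
    calc g ^ k * u * (u * g ^ k * u) = g ^ k * ((u * u) * g ^ k) * u := by group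
      _ = g ^ (k + k) * u := by rw [hu2, one_mul, pow_add]
      _ = g⁻¹ * u := by
          rw [show g ^ (k + k) = g⁻¹ from eq_inv_of_mul_eq_one_left (by
            rw [← pow_succ, ← hk]; congr 1; omega)]
  have htri : ∀ k : ℕ, g ^ (2 * k + 1) = 1 → Tri a (g ^ k * a * (g ^ k)⁻¹) d := by
    intro k hk
    obtain ⟨hda, hdb, hab⟩ := ht
    have hcw : Commute w (g ^ k * a * (g ^ k)⁻¹) := by
      have := (Commute.conj_iff (g ^ k)).2 hua
      rwa [hconj k hk] at this
    have hax : Ax b (g ^ k * a * (g ^ k)⁻¹) :=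
      axis_unique h hdb.2.1 (line_conj hda.2.1 _) hw1 hw2 hwb hcw
    refine ⟨hda, adj_ax hdb hax, fun e => hab ?_⟩
    rcases hax with e1 | e1 <;> rw [e1] at e <;> rcases e with e | e
    · exact Or.inl e
    · exact Or.inr e
    · exact Or.inr (inv_eq_iff_eq_inv.1 e)
    · exact Or.inl (inv_injective e)
  rcases hn with hn | hn
  · have hg3 : g ^ 3 = 1 := orderOf_dvd_iff_pow_eq_one.1 hn.dvd
    have := htri 1 hg3
    rw [pow_one] at this
    exact iso_three h hg3 hu1 hu2 hua hgu this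
  · have := htri 2 (orderOf_dvd_iff_pow_eq_one.1 hn.dvd)
    rw [pow_two] at this
    exact iso_five h hn hu1 hu2 hua hgu this

end Cfsg.Agent.Block.SevenPts
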